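import Groth.Agent.H8Props.KoszImm.LCI
import Mathlib.AlgebraicGeometry.Morphisms.LocalFlatDescent

/-!
# Flat base change and descent of Koszul morphisms
-/

set_option autoImplicit false
set_option linter.style.haveILetI false

universe u

open CategoryTheory CategoryTheory.Limits AlgebraicGeometry TopologicalSpace

namespace Groth.Agent.H8Props.KoszImm

variable {X Y X' Y' Z Z' : Scheme.{u}}

/-- Local complete intersection ring maps on all charts give Koszul points. -/
theorem forall_isKoszulAt_of_charts (f : X ⟶ Y)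
    (H : ∀ (U : X.Opens) (V : Y.Opens) (_ : IsAffineOpen U) (_ : IsAffineOpen V) (hUV : U ≤ f ⁻¹ᵁ V),
      letI := (f.appLE V U hUV).hom.toAlgebra
      LCI.IsLCI Γ(Y, V) Γ(X, U)) (x : X) : Synt.IsKoszulAt f x := by
  obtain ⟨_, ⟨V, hV, rfl⟩, hxV, -⟩ :=
    Y.isBasis_affineOpens.exists_subset_of_mem_open (Set.mem_univ (f x)) isOpen_univ
  obtain ⟨_, ⟨U, hU, rfl⟩, hxU, hUV⟩ :=
    X.isBasis_affineOpens.exists_subset_of_mem_open (show x ∈ (f ⁻¹ᵁ V : X.Opens).1 from hxV) (f ⁻¹ᵁ V).2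
  exact (isKoszulAt_chart_iff f hU hV hUV).2 (H U V hU hV hUV) x hxU

/-- Koszul-regular immersions are preserved by flat base change. -/
theorem regAt_baseChange {i : Z ⟶ X} {i' : Z' ⟶ X'} {g : X' ⟶ X} {h : Z' ⟶ Z} (H : IsPullback h i' i g)
    [Flat g] (z' : Z') (hz : RegImm.IsRegularImmersionAt .koszul i (h z')) :
    RegImm.IsRegularImmersionAt .koszul i' z' := by
  obtain ⟨D, hD, hcl, rs, hrs, hker⟩ := hz
  have hgz : g (i' z') ∈ D.1 := by
    rw [← Scheme.Hom.comp_apply, ← H.w]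
    exact hD
  obtain ⟨W, hW, hzW, hWle⟩ := exists_isAffineOpen_mem_and_subset (U := g ⁻¹ᵁ D.1) (x := i' z') hgz
  obtain ⟨hcl', hker'⟩ := H29Slice.restrict_baseChange H D.2 hcl hW hWle
  letI : Algebra Γ(X, D.1) Γ(X', W) := (g.appLE D.1 W hWle).hom.toAlgebra
  haveI : Module.Flat Γ(X, D.1) Γ(X', W) :=
    HasRingHomProperty.appLE @Flat g inferInstance D ⟨W, hW⟩ hWle
  exact ⟨⟨W, hW⟩, hzW, hcl', rs.map (algebraMap Γ(X, D.1) Γ(X', W)),
    H17.KoszulBC.isKoszulRegularSeq_map Γ(X', W) hrs, by rw [hker', hker, Ideal.map_ofList]; rfl⟩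

/-- Flat base change of Koszul morphisms. -/
theorem isKoszulAt_baseChange (f : X ⟶ Y) (g : Y' ⟶ Y) [Flat g] (f' : X' ⟶ Y') (g' : X' ⟶ X)
    (hsq : IsPullback g' f' f g) (x' : X') (hx : Synt.IsKoszulAt f (g' x')) :
    Synt.IsKoszulAt f' x' := by
  obtain ⟨U, P, k, π, hxU, hft, hk, hπ, hkπ⟩ := hx
  haveI := hft
  haveI := hπ
  haveI := hk.1
  let U' : X'.Opens := g' ⁻¹ᵁ U
  have hbot : IsPullback (g' ∣_ U) (U'.ι ≫ f') (U.ι ≫ f) g :=
    ((isPullback_morphismRestrict g' U).flip.flip).paste_vert hsq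
  have hcomm : ((g' ∣_ U) ≫ k) ≫ π = (U'.ι ≫ f') ≫ g := by rw [Category.assoc, hkπ, hbot.w]
  let k' : (U' : Scheme) ⟶ pullback π g := pullback.lift ((g' ∣_ U) ≫ k) (U'.ι ≫ f') hcomm
  have hsquare : IsPullback (g' ∣_ U) k' k (pullback.fst π g) := by
    refine IsPullback.of_bot ?_ (pullback.lift_fst _ _ hcomm).symm (IsPullback.of_hasPullback π g)
    rw [pullback.lift_snd, hkπ]
    exact hbot
  haveI : IsImmersion k' := MorphismProperty.of_isPullback hsquare hk.1
  haveI : LocallyOfFiniteType (U'.ι ≫ f') := MorphismProperty.of_isPullback hbot hft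
  exact ⟨U', _, k', pullback.snd π g, hxU, inferInstance,
    ⟨inferInstance, fun z => regAt_baseChange hsquare z (hk.2 _)⟩, inferInstance,
    pullback.lift_snd _ _ hcomm⟩

/-- Descent of Koszul morphisms along fpqc maps. -/
theorem forall_isKoszulAt_descend (f : X ⟶ Y) (g : Y' ⟶ Y) [Flat g] [Surjective g] [QuasiCompact g]
    (f' : X' ⟶ Y') (g' : X' ⟶ X) (hsq : IsPullback g' f' f g) (hf' : ∀ x', Synt.IsKoszulAt f' x')
    (x : X) : Synt.IsKoszulAt f x := by
  haveI : LocallyOfFiniteType f' := locallyOfFiniteType_of_isKoszulAt f' hf'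
  haveI : LocallyOfFiniteType f :=
    MorphismProperty.of_isPullback_of_descendsAlong (P := @LocallyOfFiniteType)
      (Q := @Surjective ⊓ @Flat ⊓ @QuasiCompact) hsq.flip
      ⟨⟨inferInstance, inferInstance⟩, inferInstance⟩ inferInstance
  obtain ⟨_, ⟨V, hV, rfl⟩, hxV, -⟩ :=
    Y.isBasis_affineOpens.exists_subset_of_mem_open (Set.mem_univ (f x)) isOpen_univ
  obtain ⟨_, ⟨U, hU, rfl⟩, hxU, hUV⟩ :=
    X.isBasis_affineOpens.exists_subset_of_mem_open (show x ∈ (f ⁻¹ᵁ V : X.Opens).1 from hxV) (f ⁻¹ᵁ V).2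
  let A := Γ(Y, V)
  let B := Γ(X, U)
  letI : Algebra A B := (f.appLE V U hUV).hom.toAlgebra
  haveI : Algebra.FiniteType A B :=
    HasRingHomProperty.appLE @LocallyOfFiniteType f inferInstance ⟨V, hV⟩ ⟨U, hU⟩ hUV
  obtain ⟨n, α, hα⟩ := Algebra.FiniteType.iff_quotient_mvPolynomial''.1 ‹Algebra.FiniteType A B›
  let i : Spec B ⟶ Spec (CommRingCat.of (MvPolynomial (Fin n) A)) :=
    Spec.map (CommRingCat.ofHom α.toRingHom)
  haveI : IsClosedImmersion i := IsClosedImmersion.spec_of_surjective _ hα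
  haveI := smooth_mvPolynomial (A := A) n
  let π := Spec.map (CommRingCat.ofHom (algebraMap A (MvPolynomial (Fin n) A))) ≫ hV.fromSpec
  haveI : Smooth π := inferInstanceAs (Smooth (_ ≫ _))
  have hiπ : i ≫ π = hU.fromSpec ≫ f := by
    rw [← IsAffineOpen.SpecMap_appLE_fromSpec f hV hU hUV]
    exact (Category.assoc _ _ _).symm.trans (congrArg (· ≫ hV.fromSpec) (specMap_comp α))
  let pr := pullback.fst π g
  have H := IsPullback.of_hasPullback i pr
  let e : pullback i pr ⟶ X' := hsq.lift (pullback.fst i pr ≫ hU.fromSpec)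
    (pullback.snd i pr ≫ pullback.snd π g)
    (by rw [Category.assoc, ← hiπ, Category.assoc, ← pullback.condition, reassoc_of% H.w])
  have hbig : IsPullback (pullback.fst i pr) (e ≫ f') (hU.fromSpec ≫ f) g := by
    rw [hsq.lift_snd, ← hiπ]
    exact H.paste_vert (IsPullback.of_hasPullback π g)
  have hopen : IsPullback (pullback.fst i pr) e hU.fromSpec g' :=
    IsPullback.of_bot hbig (hsq.lift_fst _ _ _).symm hsq
  haveI : IsOpenImmersion e := MorphismProperty.of_isPullback hopen inferInstance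
  haveI : IsImmersion (pullback.snd i pr) := inferInstance
  have hi' : RegImm.IsRegularImmersion .koszul (pullback.snd i pr) := ⟨inferInstance, fun z =>
    regAt_of_isKoszulAt (e ≫ f') (pullback.snd i pr) (pullback.snd π g) (hsq.lift_snd _ _ _).symm z
      ((isKoszulAt_open_iff e f' z).2 (hf' _))⟩
  have hi : RegImm.IsRegularImmersion .koszul i :=
    H17.RegDescent.descend i pr (pullback.snd i pr) (pullback.fst i pr) H .koszul (by decide) hi'
  obtain ⟨z, rfl⟩ := hU.range_fromSpec.ge hxU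
  rw [← isKoszulAt_open_iff]
  refine ⟨⊤, _, (⊤ : (Spec B).Opens).ι ≫ i, π, trivial, inferInstance, ⟨inferInstance, fun w => ?_⟩,
    inferInstance, by rw [Category.assoc, hiπ]⟩
  exact (regAt_open_iff _ i w).2 (hi.2 _)

end Groth.Agent.H8Props.KoszImm
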