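import Groth.Agent.H8Props.KoszImm.LCI

/-!
# Composition of Koszul morphisms
-/

set_option autoImplicit false
set_option linter.style.haveILetI false

universe u

open CategoryTheory CategoryTheory.Limits AlgebraicGeometry TopologicalSpace

namespace Groth.Agent.H8Props.KoszImm

/-- Koszul-regular ideals pull back along quotients by Koszul-regular sequences. -/
theorem KRAt.of_quotient {P P' : Type u} [CommRing P] [CommRing P'] (q : P →+* P')
    (hq : Function.Surjective q) {F : List P} (hF : LCI.IsKoszulRegularSeq P F)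
    (hker : RingHom.ker q = Ideal.ofList F) {I Q : Ideal P'} (h : KRAt I Q) :
    KRAt (I.comap q) (Q.comap q) := by
  obtain ⟨g', hg', f', hf'I, hreg, hIf⟩ := h.exists_chart
  obtain ⟨g, rfl⟩ := hq g'
  obtain ⟨f, rfl⟩ := List.map_surjective_iff.2 hq f'
  let T := Localization.Away g
  let T' := Localization.Away (q g)
  haveI : IsLocalization ((Submonoid.powers g).map q) T' := by
    rw [show (Submonoid.powers g).map q = Submonoid.powers (q g) from Submonoid.map_powers _ _]
    infer_instance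
  let qT : T →+* T' := IsLocalization.Away.map T T' q g
  have hqT : Function.Surjective qT := IsLocalization.map_surjective_of_surjective _ _ _ hq
  have hqc : qT.comp (algebraMap P T) = (algebraMap P' T').comp q := IsLocalization.map_comp _
  have hkT : RingHom.ker qT = Ideal.ofList (F.map (algebraMap P T)) := by
    show RingHom.ker (IsLocalization.map _ q _) = _
    rw [IsLocalization.ker_map _ q (Submonoid.map_powers _ _), hker, Ideal.map_ofList]
  have hlist : (f.map (algebraMap P T)).map qT = (f.map q).map (algebraMap P' T') := by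
    simp only [List.map_map, ← RingHom.coe_comp, hqc]
  haveI : Module.Flat P T := IsLocalization.flat T (Submonoid.powers g)
  have hT : LCI.IsKoszulRegularSeq T (f.map (algebraMap P T) ++ F.map (algebraMap P T)) :=
    H17.KoszComp.isKoszulRegularSeq_append qT hqT (H17.KoszulBC.isKoszulRegularSeq_map T hF) hkT
      (hlist ▸ hreg)
  refine KRAt.of_away (g := g) hg' T hT (le_antisymm ?_ ?_)
  · rw [Ideal.map_le_iff_le_comap]
    intro a ha
    have h1 : qT (algebraMap P T a) ∈ Ideal.ofList ((f.map (algebraMap P T)).map qT) := by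
      rw [hlist, ← hIf, ← RingHom.comp_apply, hqc]
      exact Ideal.mem_map_of_mem _ ha
    rw [← Ideal.map_ofList, ← Ideal.mem_comap, Ideal.comap_map_of_surjective' qT hqT, hkT,
      ← Ideal.ofList_append] at h1
    exact h1
  · rw [← List.map_append, ← Ideal.map_ofList]
    refine Ideal.map_mono (Ideal.span_le.2 fun a ha => ?_)
    rcases List.mem_append.1 ha with ha | ha
    · exact hf'I _ (List.mem_map_of_mem ha)
    · exact Ideal.ker_le_comap q (hker ▸ Ideal.subset_span ha)

/-- Local complete intersections compose with quotients by Koszul-regular sequences. -/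
theorem isLCI_of_quotient {A₀ A B : Type u} [CommRing A₀] [CommRing A] [CommRing B] [Algebra A₀ A]
    [Algebra A B] [Algebra A₀ B] [IsScalarTower A₀ A B] (hs : Function.Surjective (algebraMap A₀ A))
    {F : List A₀} (hF : LCI.IsKoszulRegularSeq A₀ F)
    (hker : RingHom.ker (algebraMap A₀ A) = Ideal.ofList F) (h : LCI.IsLCI A B) : LCI.IsLCI A₀ B := by
  obtain ⟨hft, n, α, hα, hk⟩ := h
  let q : MvPolynomial (Fin n) A₀ →+* MvPolynomial (Fin n) A := MvPolynomial.map (algebraMap A₀ A)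
  have hq : Function.Surjective q := MvPolynomial.map_surjective _ hs
  let γ : MvPolynomial (Fin n) A₀ →ₐ[A₀] B :=
    { α.toRingHom.comp q with
      commutes' := fun a => by
        show α (MvPolynomial.map (algebraMap A₀ A) (MvPolynomial.C a)) = _
        rw [MvPolynomial.map_C, MvPolynomial.algHom_C, ← IsScalarTower.algebraMap_apply] }
  have hγ : Function.Surjective γ := hα.comp hq
  haveI : Module.Flat A₀ (MvPolynomial (Fin n) A₀) := inferInstance
  have hFC : LCI.IsKoszulRegularSeq (MvPolynomial (Fin n) A₀) (F.map MvPolynomial.C) :=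
    H17.KoszulBC.isKoszulRegularSeq_map (MvPolynomial (Fin n) A₀) hF
  have hkq : RingHom.ker q = Ideal.ofList (F.map MvPolynomial.C) := by
    rw [← Ideal.map_ofList, ← hker]
    exact MvPolynomial.ker_map (algebraMap A₀ A)
  refine ⟨Algebra.FiniteType.of_surjective γ hγ, n, γ, hγ, ?_⟩
  rw [isKoszulRegularIdeal_iff]
  intro P hP
  have hkerγ : RingHom.ker γ.toRingHom = (RingHom.ker α.toRingHom).comap q :=
    (RingHom.comap_ker α.toRingHom q).symm
  have hmem : P ∈ Set.range (PrimeSpectrum.comap q) := by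
    rw [_root_.range_comap_of_surjective _ _ hq]
    exact (Ideal.ker_le_comap q).trans (hkerγ.ge.trans hP)
  obtain ⟨Q, rfl⟩ := hmem
  rw [hkerγ]
  refine KRAt.of_quotient q hq hFC hkq ((isKoszulRegularIdeal_iff _).1 hk Q fun a ha => ?_)
  obtain ⟨b, rfl⟩ := hq a
  exact hP (hkerγ ▸ ha)

variable {X Y Z : Scheme.{u}}

/-- An affine neighbourhood inside the set of Koszul points. -/
theorem exists_affine_koszul (f : X ⟶ Y) (x : X) (h : Synt.IsKoszulAt f x) (O : X.Opens) (hx : x ∈ O) :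
    ∃ U : X.affineOpens, x ∈ U.1 ∧ U.1 ≤ O ∧ ∀ y ∈ U.1, Synt.IsKoszulAt f y := by
  obtain ⟨U₀, P, k, π, hxU, h1, h2, h3, h4⟩ := h
  obtain ⟨_, ⟨U, hU, rfl⟩, hxU', hsub⟩ := X.isBasis_affineOpens.exists_subset_of_mem_open
    (a := x) (u := (U₀ ⊓ O : X.Opens).1) ⟨hxU, hx⟩ (U₀ ⊓ O).2
  exact ⟨⟨U, hU⟩, hxU', fun y hy => (hsub hy).2, fun y hy => ⟨U₀, P, k, π, (hsub hy).1, h1, h2, h3, h4⟩⟩

/-- Koszul morphisms compose. -/
theorem isKoszulAt_comp (f : X ⟶ Y) (g : Y ⟶ Z) (x : X) (hf : Synt.IsKoszulAt f x)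
    (hg : Synt.IsKoszulAt g (f x)) : Synt.IsKoszulAt (f ≫ g) x := by
  obtain ⟨U₁, Q, k, ρ, hxU, -, hk, hρ, hkρ⟩ := hg
  haveI := hρ
  obtain ⟨D, hyD, hcl, rs, hrs, hker⟩ := hk.2 ⟨f x, hxU⟩
  let T : (U₁ : Scheme).Opens := k ⁻¹ᵁ D.1
  have hT : IsAffineOpen T := (H17.app_surjective_of_restrict k D.2).2
  have hsurj : Function.Surjective (k.app D.1).hom := (H17.app_surjective_of_restrict k D.2).1
  let V : Y.Opens := (hT.fromSpec ≫ U₁.ι).opensRange
  have hxV : f x ∈ V := by
    obtain ⟨w, hw⟩ := hT.range_fromSpec.ge (show (⟨f x, hxU⟩ : (U₁ : Scheme)) ∈ T from hyD)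
    exact ⟨w, by rw [Scheme.Hom.comp_apply, hw]; rfl⟩
  obtain ⟨U, hxU', hUV, hUK⟩ := exists_affine_koszul f x hf (f ⁻¹ᵁ V) hxV
  let A := Γ((U₁ : Scheme), T)
  let B := Γ(X, U.1)
  -- the map `Spec B ⟶ Spec A`
  have hrange : Set.range (U.2.fromSpec ≫ f) ⊆ Set.range (hT.fromSpec ≫ U₁.ι) := by
    rintro _ ⟨z, rfl⟩
    exact hUV (U.2.range_fromSpec.le (Set.mem_range_self z))
  let s : Spec B ⟶ Spec A := IsOpenImmersion.lift (hT.fromSpec ≫ U₁.ι) (U.2.fromSpec ≫ f) hrange
  have hs : s ≫ hT.fromSpec ≫ U₁.ι = U.2.fromSpec ≫ f := IsOpenImmersion.lift_fac _ _ _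
  obtain ⟨w, hw⟩ := U.2.range_fromSpec.ge hxU'
  letI : Algebra A B := (Spec.preimage s).hom.toAlgebra
  letI : Algebra Γ(Q, D.1) A := (k.app D.1).hom.toAlgebra
  letI : Algebra Γ(Q, D.1) B := ((algebraMap A B).comp (algebraMap Γ(Q, D.1) A)).toAlgebra
  haveI : IsScalarTower Γ(Q, D.1) A B := IsScalarTower.of_algebraMap_eq' rfl
  have hs' : Spec.map (CommRingCat.ofHom (algebraMap A B)) = s := Spec.map_preimage s
  have hAB : LCI.IsLCI A B := by
    refine forall_isKoszulAt_Spec_iff.1 fun z => ?_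
    refine isKoszulAt_of_comp_smooth _ (hT.fromSpec ≫ U₁.ι) z ?_
    rw [hs', hs]
    exact (isKoszulAt_open_iff _ _ z).2 (hUK _ (U.2.range_fromSpec.le (Set.mem_range_self z)))
  have h0 : LCI.IsLCI Γ(Q, D.1) B := isLCI_of_quotient hsurj hrs hker hAB
  have hK := forall_isKoszulAt_Spec_iff.2 h0 w
  have hmain : Spec.map (CommRingCat.ofHom (algebraMap Γ(Q, D.1) B)) ≫ D.2.fromSpec ≫ ρ =
      U.2.fromSpec ≫ f ≫ g := by
    have h1 : Spec.map (CommRingCat.ofHom (algebraMap Γ(Q, D.1) B)) =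
        s ≫ Spec.map (k.app D.1) := by
      rw [← hs', ← Spec.map_comp]
      rfl
    have h2 : Spec.map (k.app D.1) ≫ D.2.fromSpec = hT.fromSpec ≫ k := by
      rw [← Scheme.Hom.appLE_eq_app]
      exact IsAffineOpen.SpecMap_appLE_fromSpec k D.2 hT le_rfl
    rw [h1, Category.assoc, reassoc_of% h2, hkρ, reassoc_of% hs]
  have := isKoszulAt_comp_smooth _ (D.2.fromSpec ≫ ρ) w hK
  rw [hmain] at this
  rw [← hw]
  exact (isKoszulAt_open_iff U.2.fromSpec (f ≫ g) w).1 this

end Groth.Agent.H8Props.KoszImm
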