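import Groth.Agent.H8Props.KoszImm.SyntomicScheme
import Groth.Agent.H8Props.KoszImm.Comp
import Groth.Agent.H9CI.RelGCINhd
import Groth.Agent.H9CI.BaseChange
import Groth.Agent.H13Flat.Scheme
import Groth.Agent.H17.RegQuasi

/-!
# Koszul morphisms are local for syntomic coverings of the source
-/

set_option autoImplicit false
set_option linter.style.haveILetI false

universe u

open CategoryTheory CategoryTheory.Limits AlgebraicGeometry TopologicalSpace

namespace Groth.Agent.H8Props.KoszImm

variable {X Y Z : Scheme.{u}}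

/-- A point where an immersion into a smooth scheme is Koszul-regular is a Koszul point. -/
theorem isKoszulAt_of_regAt (f : X ⟶ Y) [LocallyOfFiniteType f] (i : X ⟶ Z) [IsImmersion i] (p : Z ⟶ Y)
    [Smooth p] (h : i ≫ p = f) (x : X) (hx : RegImm.IsRegularImmersionAt .koszul i x) :
    Synt.IsKoszulAt f x := by
  obtain ⟨W, hxW, hcl, rs, hrs, hker⟩ := hx
  refine ⟨i ⁻¹ᵁ W.1, Z, (i ⁻¹ᵁ W.1).ι ≫ i, p, hxW, inferInstance, ⟨inferInstance, fun z => ?_⟩,
    inferInstance, by rw [Category.assoc, h]⟩
  exact (regAt_restrict_iff (i ⁻¹ᵁ W.1) i z.1 z.2).2 ⟨W, z.2, hcl, rs, hrs, hker⟩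

/-- Descent along the equations of a relative global complete intersection lifted to a presentation. -/
theorem isKoszulAt_down {A B : Type u} [CommRing A] [CommRing B] [Algebra A B] [Algebra.FiniteType A B] {n : ℕ}
    (α : MvPolynomial (Fin n) A →ₐ[A] B) (hα : Function.Surjective α) {m k : ℕ}
    (G : Fin k → MvPolynomial (Fin m) (MvPolynomial (Fin n) A))
    (hG : Synt.IsRelGCI (MvPolynomial (Fin n) A) m k G)
    (z : PrimeSpectrum (Synt.RelGCIRing B m k fun i => MvPolynomial.map α.toRingHom (G i)))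
    (hK : Synt.IsKoszulAt (Spec.map (CommRingCat.ofHom
      (algebraMap A (Synt.RelGCIRing B m k fun i => MvPolynomial.map α.toRingHom (G i))))) z) :
    Synt.IsKoszulAt (Spec.map (CommRingCat.ofHom (algebraMap A B)))
      (PrimeSpectrum.comap (algebraMap B (Synt.RelGCIRing B m k fun i => MvPolynomial.map α.toRingHom (G i))) z) := by
  classical
  let P := MvPolynomial (Fin n) A
  let Q := MvPolynomial (Fin m) P
  let GB : Fin k → MvPolynomial (Fin m) B := fun i => MvPolynomial.map α.toRingHom (G i)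
  let C := Synt.RelGCIRing B m k GB
  let μ : Q →+* MvPolynomial (Fin m) B := MvPolynomial.map α.toRingHom
  have hμ : Function.Surjective μ := MvPolynomial.map_surjective _ hα
  let π : Q →+* C := (Ideal.Quotient.mk (Ideal.span (Set.range GB))).comp μ
  have hπ : Function.Surjective π := Ideal.Quotient.mk_surjective.comp hμ
  let I := RingHom.ker α.toRingHom
  let F := List.ofFn G
  have hF : Ideal.ofList F = Ideal.span (Set.range G) := congrArg Ideal.span (Set.ext fun x => List.mem_ofFn)
  have hker : RingHom.ker π = I.map (algebraMap P Q) ⊔ Ideal.ofList F := by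
    show RingHom.ker ((Ideal.Quotient.mk _).comp μ) = _
    rw [← RingHom.comap_ker, Ideal.mk_ker, show Set.range GB = μ '' Set.range G by rw [← Set.range_comp]; rfl,
      ← Ideal.map_span, Ideal.comap_map_of_surjective' μ hμ, MvPolynomial.ker_map, hF, sup_comm]
    rfl
  have hπA : π.comp (algebraMap A Q) = algebraMap A C := by
    refine RingHom.ext fun a => ?_
    show Ideal.Quotient.mk _ (MvPolynomial.map α.toRingHom (MvPolynomial.C (algebraMap A P a))) = _
    rw [MvPolynomial.map_C, show α.toRingHom (algebraMap A P a) = algebraMap A B a from α.commutes a]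
    rfl
  have hπP : π.comp (algebraMap P Q) = (algebraMap B C).comp α.toRingHom := by
    refine RingHom.ext fun a => ?_
    show Ideal.Quotient.mk _ (MvPolynomial.map α.toRingHom (MvPolynomial.C a)) = _
    rw [MvPolynomial.map_C]
    rfl
  let P' : Ideal Q := z.asIdeal.comap π
  -- the kernel is Koszul-regular at the point
  haveI : LocallyOfFiniteType (Spec.map (CommRingCat.ofHom (algebraMap A B))) := by
    rw [HasRingHomProperty.Spec_iff (P := @LocallyOfFiniteType)]
    exact RingHom.finiteType_algebraMap.2 inferInstance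
  haveI : IsClosedImmersion (Spec.map (CommRingCat.ofHom π)) := IsClosedImmersion.spec_of_surjective _ hπ
  haveI := smooth_mvPolynomial (A := A) n
  haveI := smooth_mvPolynomial (A := P) m
  have hJ : KRAt (RingHom.ker π) P' := by
    refine (regAt_Spec_iff (CommRingCat.ofHom π) hπ z).1
      (regAt_of_isKoszulAt _ (Spec.map (CommRingCat.ofHom π))
        (Spec.map (CommRingCat.ofHom (algebraMap P Q)) ≫ Spec.map (CommRingCat.ofHom (algebraMap A P))) ?_ z hK)
    rw [← Spec.map_comp, ← Spec.map_comp]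
    congr 1
    refine CommRingCat.hom_ext (Eq.trans ?_ hπA)
    simp only [CommRingCat.hom_comp, CommRingCat.hom_ofHom]
    rw [← IsScalarTower.algebraMap_eq A P Q]
  -- the fibre
  let p : Ideal P := P'.under P
  obtain ⟨Qb, hQbp, hQb⟩ := H9CI.exists_prime_comap (R := P) p P' rfl
  haveI := hQbp
  let κ := p.ResidueField
  let L := Localization.AtPrime Qb
  let ρ : Q →+* MvPolynomial (Fin m) κ := MvPolynomial.map (algebraMap P κ)
  let φ : Q →+* L := (algebraMap (MvPolynomial (Fin m) κ) L).comp ρ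
  have hGP : ∀ i, G i ∈ P' := fun i => by
    refine Ideal.ker_le_comap π ?_
    rw [hker]
    exact Ideal.mem_sup_right (hF ▸ Ideal.subset_span ⟨i, rfl⟩)
  have hreg := H9CI.isRegular_fibre_of_isRelGCI p G hG Qb fun i => hQb.ge (hGP i)
  have hirr : H17.RegDescent.Irred (F.map φ) := by
    have hlist : F.map φ = List.ofFn fun i => algebraMap (MvPolynomial (Fin m) κ) L (ρ (G i)) := by
      simp only [F, List.map_ofFn]
      rfl
    rw [hlist]
    refine H17.RegDescent.irred_of_quasi (H17.RegQuasi.quasi_of_regular hreg) ?_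
    have h2 := hreg.2
    rw [smul_eq_mul, Ideal.mul_top] at h2
    exact h2.symm
  haveI : Module.Flat P (Q ⧸ Ideal.ofList F) := by
    rw [hF]
    exact H9CI.flat_relGCIRing G hG
  haveI : Algebra.FinitePresentation P (Q ⧸ Ideal.ofList F) := by
    rw [hF]
    exact Algebra.FinitePresentation.quotient (Submodule.fg_span (Set.finite_range G))
  have hI : KRAt I p := KRAt.down F I (RingHom.ker π) (H9CI.isKoszulRegularSeq_relGCI G hG) P'
    (Ideal.ker_le_comap π)
    ⟨1, fun h1 => (inferInstance : P'.IsPrime).ne_top ((Ideal.eq_top_iff_one _).2 h1), by rw [hker]⟩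
    φ (fun x hx => IsLocalization.map_units L (⟨ρ x, fun h => hx (hQb ▸ h : x ∈ P')⟩ : Qb.primeCompl))
    (fun a ha => by
      show algebraMap (MvPolynomial (Fin m) κ) L (MvPolynomial.map (algebraMap P κ) (MvPolynomial.C a)) = 0
      rw [MvPolynomial.map_C, Ideal.algebraMap_residueField_eq_zero.mpr ha, map_zero, map_zero])
    hirr hJ
  -- back to the scheme
  haveI : IsClosedImmersion (Spec.map (CommRingCat.ofHom α.toRingHom)) :=
    IsClosedImmersion.spec_of_surjective _ hα
  refine isKoszulAt_of_regAt _ (Spec.map (CommRingCat.ofHom α.toRingHom)) _ (specMap_comp α) _ ?_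
  refine (regAt_Spec_iff (CommRingCat.ofHom α.toRingHom) hα _).2 ?_
  have hp : p = ((z.asIdeal).comap (algebraMap B C)).comap α.toRingHom := by
    show (z.asIdeal.comap π).comap (algebraMap P Q) = _
    rw [Ideal.comap_comap, hπP, ← Ideal.comap_comap]
  rw [hp] at hI
  exact hI

/-- A relative global complete intersection over a quotient of a polynomial ring lifts, near a point, to
one over the polynomial ring. -/
theorem isKoszulAt_of_relGCI {A B : Type u} [CommRing A] [CommRing B] [Algebra A B] [Algebra.FiniteType A B]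
    {m k : ℕ} (F : Fin k → MvPolynomial (Fin m) B) (hF : Synt.IsRelGCI B m k F)
    (z : PrimeSpectrum (Synt.RelGCIRing B m k F))
    (hK : Synt.IsKoszulAt (Spec.map (CommRingCat.ofHom (algebraMap A (Synt.RelGCIRing B m k F)))) z) :
    Synt.IsKoszulAt (Spec.map (CommRingCat.ofHom (algebraMap A B)))
      (PrimeSpectrum.comap (algebraMap B (Synt.RelGCIRing B m k F)) z) := by
  classical
  obtain ⟨n, α, hα⟩ := Algebra.FiniteType.iff_quotient_mvPolynomial''.1 ‹Algebra.FiniteType A B›
  let P := MvPolynomial (Fin n) A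
  choose G hG using fun i => MvPolynomial.map_surjective α.toRingHom hα (F i)
  obtain rfl : F = fun i => MvPolynomial.map α.toRingHom (G i) := funext fun i => (hG i).symm
  let GB : Fin k → MvPolynomial (Fin m) B := fun i => MvPolynomial.map α.toRingHom (G i)
  let C := Synt.RelGCIRing B m k GB
  let S := Synt.RelGCIRing P m k G
  let ν : S →+* C := Ideal.quotientMap (Ideal.span (Set.range GB)) (MvPolynomial.map α.toRingHom)
    (Ideal.span_le.2 (by
      rintro _ ⟨i, rfl⟩
      exact Ideal.subset_span ⟨i, rfl⟩))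
  have hνP : ν.comp (algebraMap P S) = (algebraMap B C).comp α.toRingHom := by
    refine RingHom.ext fun a => ?_
    show Ideal.Quotient.mk _ (MvPolynomial.map α.toRingHom (MvPolynomial.C a)) = _
    rw [MvPolynomial.map_C]
    rfl
  let x : PrimeSpectrum S := PrimeSpectrum.comap ν z
  let p : Ideal P := x.asIdeal.comap (algebraMap P S)
  -- the point is not bad
  have hp : p = ((z.asIdeal.comap (algebraMap B C))).comap α.toRingHom := by
    show (z.asIdeal.comap ν).comap (algebraMap P S) = _
    rw [Ideal.comap_comap, hνP, ← Ideal.comap_comap]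
  have hIp : RingHom.ker α.toRingHom ≤ p := hp ▸ Ideal.ker_le_comap _
  let κ := p.ResidueField
  let σ : B →+* κ := RingHom.liftOfSurjective α.toRingHom hα ⟨algebraMap P κ, fun a ha => by
    rw [RingHom.mem_ker]
    exact Ideal.algebraMap_residueField_eq_zero.mpr (hIp ha)⟩
  have hσ : σ.comp α.toRingHom = algebraMap P κ := RingHom.liftOfSurjective_comp _ hα _
  have hGκ : Synt.IsRelGCI κ m k fun i => MvPolynomial.map (algebraMap P κ) (G i) := by
    rw [← hσ]
    simp only [← MvPolynomial.map_map]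
    exact H9CI.isRelGCI_map σ GB hF
  have hloc := (H8Props.RelGCI.mem_locus_map (algebraMap P κ) G).1 hGκ ⟨⊥, Ideal.isPrime_bot⟩
  have hcomap : PrimeSpectrum.comap (algebraMap P κ) ⟨⊥, Ideal.isPrime_bot⟩ =
      (⟨p, inferInstance⟩ : PrimeSpectrum P) := by
    refine PrimeSpectrum.ext ?_
    ext a
    exact Ideal.algebraMap_residueField_eq_zero
  rw [hcomap] at hloc
  change topologicalKrullDim _ ≤ _ at hloc
  rw [H8Props.RelGCI.dim_fibre] at hloc
  obtain ⟨W, hWp, -⟩ := H9CI.exists_fibre_prime (R := P) x.asIdeal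
  haveI : Nontrivial (p.Fiber S) := nontrivial_of_ne 0 1 fun h01 =>
    hWp.ne_top ((Ideal.eq_top_iff_one _).2 (h01 ▸ zero_mem _))
  have hne : ringKrullDim (p.Fiber S) ≠ ⊥ := Order.krullDim_ne_bot_iff.mpr inferInstance
  have hdim : k ≤ m ∧ ringKrullDim (p.Fiber S) ≤ ((m - k : ℕ) : WithBot ℕ∞) := by
    unfold H8Props.RelGCI.bd at hloc
    split_ifs at hloc with hc
    · exact ⟨hc, hloc⟩
    · exact absurd (le_bot_iff.mp hloc) hne
  have hgood := H9CI.notMem_badLocus G hdim x rfl
  obtain ⟨_, ⟨h₀, rfl⟩, hxh, hsub⟩ := PrimeSpectrum.isTopologicalBasis_basic_opens.exists_subset_of_mem_open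
    (show x ∈ (H9CI.badLocus G)ᶜ from hgood) (H9CI.isClosed_badLocus G).isOpen_compl
  obtain ⟨h, rfl⟩ := Ideal.Quotient.mk_surjective h₀
  have hvanish : ∀ y ∈ H9CI.badLocus G,
      Ideal.Quotient.mk (Ideal.span (Set.range G)) h ∈ (y : PrimeSpectrum _).asIdeal := fun y hy => by
    by_contra hy'
    exact hsub hy' hy
  let G' := H9CI.awayEqs G h
  have hG' : Synt.IsRelGCI P (m + 1) (k + 1) G' := H9CI.isRelGCI_awayEqs G h hvanish
  let hb := MvPolynomial.map α.toRingHom h
  have hmap : (fun i => MvPolynomial.map α.toRingHom (G' i)) = H9CI.awayEqs GB hb := by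
    funext i
    induction i using Fin.lastCases with
    | last => simp [G', H9CI.awayEqs, hb, MvPolynomial.map_rename]
    | cast i => simp [G', H9CI.awayEqs, GB, MvPolynomial.map_rename]
  obtain ⟨e⟩ := H9CI.nonempty_algEquiv_awayEqs GB hb
  let g₀ : C := Ideal.Quotient.mk _ hb
  have hg₀ : g₀ ∉ z.asIdeal := hxh
  let C' := Synt.RelGCIRing B (m + 1) (k + 1) (H9CI.awayEqs GB hb)
  let ε : C →ₐ[B] C' := e.toAlgHom.comp (IsScalarTower.toAlgHom B C (Localization.Away g₀))
  letI : Algebra C C' := ε.toRingHom.toAlgebra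
  haveI : IsLocalization.Away g₀ C' :=
    IsLocalization.isLocalization_of_algEquiv (Submonoid.powers g₀)
      (AlgEquiv.ofRingEquiv (f := e.toRingEquiv) fun _ => rfl)
  haveI : IsScalarTower B C C' := IsScalarTower.of_algebraMap_eq fun b => (ε.commutes b).symm
  haveI : IsScalarTower A C C' := IsScalarTower.of_algebraMap_eq fun a => by
    show algebraMap A C' a = ε (algebraMap A C a)
    rw [IsScalarTower.algebraMap_apply A B C', IsScalarTower.algebraMap_apply A B C]
    exact (ε.commutes _).symm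
  obtain ⟨w, hw⟩ : z ∈ Set.range (PrimeSpectrum.comap (algebraMap C C')) := by
    rw [PrimeSpectrum.localization_away_comap_range C' g₀]
    exact hg₀
  haveI : IsOpenImmersion (Spec.map (CommRingCat.ofHom (algebraMap C C'))) :=
    IsOpenImmersion.of_isLocalization g₀
  have hw' : Synt.IsKoszulAt (Spec.map (CommRingCat.ofHom (algebraMap A C'))) w := by
    rw [IsScalarTower.algebraMap_eq A C C', CommRingCat.ofHom_comp, Spec.map_comp]
    exact (isKoszulAt_open_iff (Spec.map (CommRingCat.ofHom (algebraMap C C')))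
      (Spec.map (CommRingCat.ofHom (algebraMap A C))) w).2
        (by rw [show (Spec.map (CommRingCat.ofHom (algebraMap C C'))) w = z from hw]; exact hK)
  have hpt : PrimeSpectrum.comap (algebraMap B C') w = PrimeSpectrum.comap (algebraMap B C) z := by
    rw [← hw, ← PrimeSpectrum.comap_comp_apply, ← IsScalarTower.algebraMap_eq]
  rw [← hpt]
  have key : ∀ H : Fin (k + 1) → MvPolynomial (Fin (m + 1)) B, (fun i => MvPolynomial.map α.toRingHom (G' i)) = H →
      ∀ w : PrimeSpectrum (Synt.RelGCIRing B (m + 1) (k + 1) H),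
        Synt.IsKoszulAt (Spec.map (CommRingCat.ofHom
          (algebraMap A (Synt.RelGCIRing B (m + 1) (k + 1) H)))) w →
        Synt.IsKoszulAt (Spec.map (CommRingCat.ofHom (algebraMap A B)))
          (PrimeSpectrum.comap (algebraMap B (Synt.RelGCIRing B (m + 1) (k + 1) H)) w) := by
    rintro _ rfl w hw
    exact isKoszulAt_down α hα G' hG' w hw
  exact key _ hmap w hw'

/-- Koszul morphisms are local for syntomic surjections on the source. -/
theorem isKoszulAt_of_syntomic_comp {X' : Scheme.{u}} (g : X' ⟶ X) (hg : Synt.IsSyntomicMor g) (f : X ⟶ Y)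
    [LocallyOfFiniteType f] (x' : X') (h : Synt.IsKoszulAt (g ≫ f) x') : Synt.IsKoszulAt f (g x') := by
  obtain ⟨_, ⟨V, hV, rfl⟩, hxV, -⟩ :=
    Y.isBasis_affineOpens.exists_subset_of_mem_open (Set.mem_univ (f (g x'))) isOpen_univ
  obtain ⟨_, ⟨U, hU, rfl⟩, hxU, hUV⟩ := X.isBasis_affineOpens.exists_subset_of_mem_open
    (show g x' ∈ (f ⁻¹ᵁ V : X.Opens).1 from hxV) (f ⁻¹ᵁ V).2
  obtain ⟨_, ⟨U', hU', rfl⟩, hxU', hU'U⟩ := X'.isBasis_affineOpens.exists_subset_of_mem_open
    (show x' ∈ (g ⁻¹ᵁ U : X'.Opens).1 from hxU) (g ⁻¹ᵁ U).2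
  let A := Γ(Y, V)
  let B := Γ(X, U)
  let C := Γ(X', U')
  letI : Algebra A B := (f.appLE V U hUV).hom.toAlgebra
  letI : Algebra B C := (g.appLE U U' hU'U).hom.toAlgebra
  letI : Algebra A C := ((algebraMap B C).comp (algebraMap A B)).toAlgebra
  haveI : IsScalarTower A B C := IsScalarTower.of_algebraMap_eq' rfl
  haveI : Algebra.FiniteType A B :=
    HasRingHomProperty.appLE @LocallyOfFiniteType f inferInstance ⟨V, hV⟩ ⟨U, hU⟩ hUV
  have hsC : Synt.IsSyntomic B C := H9CI.isSyntomic_appLE g hg ⟨U', hU'⟩ ⟨U, hU⟩ hU'U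
  obtain ⟨z, hz⟩ := hU'.range_fromSpec.ge hxU'
  obtain ⟨c, hc, m, k, F, hF, ⟨e⟩⟩ := H9CI.exists_isRelGCI_away_of_isSyntomic hsC (z : PrimeSpectrum C).asIdeal
  let D := Synt.RelGCIRing B m k F
  let ε : C →ₐ[B] D := e.toAlgHom.comp (IsScalarTower.toAlgHom B C (Localization.Away c))
  letI : Algebra C D := ε.toRingHom.toAlgebra
  haveI : IsLocalization.Away c D :=
    IsLocalization.isLocalization_of_algEquiv (Submonoid.powers c)
      (AlgEquiv.ofRingEquiv (f := e.toRingEquiv) fun _ => rfl)
  haveI : IsScalarTower B C D := IsScalarTower.of_algebraMap_eq fun b => (ε.commutes b).symm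
  obtain ⟨w, hw⟩ : z ∈ Set.range (PrimeSpectrum.comap (algebraMap C D)) := by
    rw [PrimeSpectrum.localization_away_comap_range D c]
    exact hc
  haveI : IsOpenImmersion (Spec.map (CommRingCat.ofHom (algebraMap C D))) := IsOpenImmersion.of_isLocalization c
  let o : Spec (CommRingCat.of D) ⟶ X' := Spec.map (CommRingCat.ofHom (algebraMap C D)) ≫ hU'.fromSpec
  have how : o w = x' := by
    rw [← hz]
    exact congrArg hU'.fromSpec hw
  have hBD : Spec.map (CommRingCat.ofHom (algebraMap B D)) ≫ hU.fromSpec = o ≫ g := by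
    rw [IsScalarTower.algebraMap_eq B C D, CommRingCat.ofHom_comp, Spec.map_comp, Category.assoc, Category.assoc]
    exact congrArg (_ ≫ ·) (IsAffineOpen.SpecMap_appLE_fromSpec g hU hU' hU'U)
  have hAB : Spec.map (CommRingCat.ofHom (algebraMap A B)) ≫ hV.fromSpec = hU.fromSpec ≫ f :=
    IsAffineOpen.SpecMap_appLE_fromSpec f hV hU hUV
  have hAD : Spec.map (CommRingCat.ofHom (algebraMap A D)) ≫ hV.fromSpec = o ≫ g ≫ f := by
    rw [IsScalarTower.algebraMap_eq A B D, CommRingCat.ofHom_comp, Spec.map_comp, Category.assoc, hAB,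
      reassoc_of% hBD]
  have hK : Synt.IsKoszulAt (Spec.map (CommRingCat.ofHom (algebraMap A D))) w := by
    refine isKoszulAt_of_comp_smooth (Spec.map (CommRingCat.ofHom (algebraMap A D))) hV.fromSpec w ?_
    rw [hAD]
    exact (isKoszulAt_open_iff o (g ≫ f) w).2 (how.symm ▸ h)
  have hB := isKoszulAt_of_relGCI F hF w hK
  have hfin := isKoszulAt_comp_smooth _ hV.fromSpec _ hB
  rw [hAB] at hfin
  have := (isKoszulAt_open_iff hU.fromSpec f _).1 hfin
  rw [← how, ← Scheme.Hom.comp_apply, ← hBD]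
  exact this

/-- Koszul is local for syntomic surjections on the source. -/
theorem forall_isKoszulAt_syntomic_comp_iff {X' : Scheme.{u}} (g : X' ⟶ X) (hg : Synt.IsSyntomicMor g)
    [Surjective g] (f : X ⟶ Y) :
    (∀ x', Synt.IsKoszulAt (g ≫ f) x') ↔ ∀ x, Synt.IsKoszulAt f x := by
  obtain ⟨hflat, hfp⟩ := H13CI.flat_lfp_of_isSyntomicMor hg
  refine ⟨fun h x => ?_, fun h x' => isKoszulAt_comp g f x' (((isSyntomicMor_iff g).1 hg).2 x') (h _)⟩
  haveI : LocallyOfFiniteType f := H13Flat.locallyOfFiniteType_of_fppf_covering f fun y => by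
    obtain ⟨y', hy⟩ := g.surjective y
    exact ⟨X', g, hflat, hfp, ⟨y', hy⟩, locallyOfFiniteType_of_isKoszulAt _ h⟩
  obtain ⟨x', rfl⟩ := g.surjective x
  exact isKoszulAt_of_syntomic_comp g hg f x' (h x')

end Groth.Agent.H8Props.KoszImm
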