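import Groth.Agent.H8Props.KoszImm.Fibrewise
import Groth.Agent.H8Props.KoszImm.Comp
import Groth.Agent.H8Props.KoszImm.SyntomicDescent
import Mathlib.AlgebraicGeometry.PullbackCarrier

/-!
# Base change of the Koszul locus of a morphism of flat schemes over a base
-/

set_option autoImplicit false
set_option linter.style.haveILetI false

universe u

open CategoryTheory CategoryTheory.Limits AlgebraicGeometry TopologicalSpace
open scoped TensorProduct

attribute [local instance] Algebra.TensorProduct.rightAlgebra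

namespace Groth.Agent.H8Props.KoszImm

/-- Koszul points of a closed subscheme of an affine smooth scheme. -/
theorem isKoszulAt_Spec_iff_krAt {Y : Scheme.{u}} {Q B : Type u} [CommRing Q] [CommRing B] (π : Q →+* B)
    (hπ : Function.Surjective π) (q : Spec (CommRingCat.of Q) ⟶ Y) [Smooth q]
    (f : Spec (CommRingCat.of B) ⟶ Y) (hf : Spec.map (CommRingCat.ofHom π) ≫ q = f) (z : PrimeSpectrum B) :
    Synt.IsKoszulAt f z ↔ KRAt (RingHom.ker π) (z.asIdeal.comap π) := by
  subst hf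
  haveI : IsClosedImmersion (Spec.map (CommRingCat.ofHom π)) := IsClosedImmersion.spec_of_surjective _ hπ
  refine Iff.trans ?_ (regAt_Spec_iff (CommRingCat.ofHom π) hπ z)
  exact ⟨fun h => regAt_of_isKoszulAt _ (Spec.map (CommRingCat.ofHom π)) q rfl z h, fun h =>
    isKoszulAt_of_regAt _ (Spec.map (CommRingCat.ofHom π)) q rfl z h⟩

variable {R R' A B : Type u} [CommRing R] [CommRing R'] [CommRing A] [CommRing B] [Algebra R R'] [Algebra R A]
  [Algebra R B] [Algebra A B] [IsScalarTower R A B]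

/-- The Koszul locus commutes with base change, for flat finitely presented algebras over the base. -/
theorem affine_baseChange [Algebra.FinitePresentation R A] [Module.Flat R A] [Algebra.FinitePresentation R B]
    [Module.Flat R B] (z' : PrimeSpectrum (R' ⊗[R] B)) :
    Synt.IsKoszulAt (Spec.map (CommRingCat.ofHom
      (Algebra.TensorProduct.map (AlgHom.id R R') (IsScalarTower.toAlgHom R A B)).toRingHom)) z' ↔
    Synt.IsKoszulAt (Spec.map (CommRingCat.ofHom (algebraMap A B)))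
      (PrimeSpectrum.comap (algebraMap B (R' ⊗[R] B)) z') := by
  haveI : Algebra.FiniteType A B := Algebra.FiniteType.of_restrictScalars_finiteType R A B
  obtain ⟨n, α, hα⟩ := Algebra.FiniteType.iff_quotient_mvPolynomial''.1 ‹Algebra.FiniteType A B›
  let P := MvPolynomial (Fin n) A
  haveI : Algebra.FinitePresentation R P := Algebra.FinitePresentation.trans R A P
  haveI : Module.Flat R P := Module.Flat.trans R A P
  let αR : P →ₐ[R] B := α.restrictScalars R
  let ι : A →ₐ[R] P := IsScalarTower.toAlgHom R A P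
  let αB : R' ⊗[R] P →ₐ[R] R' ⊗[R] B := Algebra.TensorProduct.map (AlgHom.id R R') αR
  let ιA : R' ⊗[R] A →ₐ[R] R' ⊗[R] P := Algebra.TensorProduct.map (AlgHom.id R R') ι
  have hαB : Function.Surjective αB := by
    intro y
    induction y with
    | zero => exact ⟨0, map_zero _⟩
    | add a b ha hb =>
      obtain ⟨a', rfl⟩ := ha
      obtain ⟨b', rfl⟩ := hb
      exact ⟨a' + b', map_add _ _ _⟩
    | tmul r b => obtain ⟨a, rfl⟩ := hα b; exact ⟨r ⊗ₜ a, rfl⟩
  let I := RingHom.ker α.toRingHom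
  have hI : I.FG := Algebra.FinitePresentation.ker_fG_of_surjective αR hα
  have hker : RingHom.ker αB.toRingHom = I.map (algebraMap P (R' ⊗[R] P)) :=
    Algebra.TensorProduct.lTensor_ker (A := R') αR hα
  let πP := Spec.map (CommRingCat.ofHom (algebraMap P (R' ⊗[R] P)))
  let πA := Spec.map (CommRingCat.ofHom (algebraMap A (R' ⊗[R] A)))
  have sqP := isPullback_SpecMap_of_isPushout _ _ _ _
    (CommRingCat.isPushout_of_isPushout R P R' (R' ⊗[R] P))
  have sqA := isPullback_SpecMap_of_isPushout _ _ _ _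
    (CommRingCat.isPushout_of_isPushout R A R' (R' ⊗[R] A))
  have hι1 : ιA.toRingHom.comp (algebraMap A (R' ⊗[R] A)) = (algebraMap P (R' ⊗[R] P)).comp (algebraMap A P) := by
    refine RingHom.ext fun a => ?_
    rfl
  have hι2 : ιA.toRingHom.comp (algebraMap R' (R' ⊗[R] A)) = algebraMap R' (R' ⊗[R] P) := by
    refine RingHom.ext fun r => ?_
    show ιA (r ⊗ₜ[R] (1 : A)) = r ⊗ₜ[R] (1 : P)
    exact congrArg (r ⊗ₜ[R] ·) (map_one ι)
  haveI : Smooth (Spec.map (CommRingCat.ofHom ιA.toRingHom)) := by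
    have hbig : IsPullback πP
        (Spec.map (CommRingCat.ofHom ιA.toRingHom) ≫ Spec.map (CommRingCat.ofHom (algebraMap R' (R' ⊗[R] A))))
        (Spec.map (CommRingCat.ofHom (algebraMap A P)) ≫ Spec.map (CommRingCat.ofHom (algebraMap R A)))
        (Spec.map (CommRingCat.ofHom (algebraMap R R'))) := by
      rw [← Spec.map_comp, ← Spec.map_comp, ← CommRingCat.ofHom_comp, ← CommRingCat.ofHom_comp, hι2,
        ← IsScalarTower.algebraMap_eq R A P]
      exact sqP
    have hp : πP ≫ Spec.map (CommRingCat.ofHom (algebraMap A P)) =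
        Spec.map (CommRingCat.ofHom ιA.toRingHom) ≫ πA := by
      rw [← Spec.map_comp, ← Spec.map_comp, ← CommRingCat.ofHom_comp, ← CommRingCat.ofHom_comp, hι1]
    exact MorphismProperty.of_isPullback (IsPullback.of_bot hbig hp sqA) (smooth_mvPolynomial (A := A) n)
  have hcomp : Spec.map (CommRingCat.ofHom αB.toRingHom) ≫ Spec.map (CommRingCat.ofHom ιA.toRingHom) =
      Spec.map (CommRingCat.ofHom
        (Algebra.TensorProduct.map (AlgHom.id R R') (IsScalarTower.toAlgHom R A B)).toRingHom) := by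
    rw [← Spec.map_comp, ← CommRingCat.ofHom_comp]
    congr 2
    refine RingHom.ext fun x => ?_
    induction x with
    | zero => simp
    | add a b ha hb => simp only [map_add, ha, hb]
    | tmul r a => exact congrArg (r ⊗ₜ[R] ·) (α.commutes a)
  haveI := smooth_mvPolynomial (A := A) n
  rw [isKoszulAt_Spec_iff_krAt αB.toRingHom hαB _ _ hcomp z',
    isKoszulAt_Spec_iff_krAt α.toRingHom hα _ _ (specMap_comp α), hker]
  let Q' : Ideal (R' ⊗[R] P) := z'.asIdeal.comap αB.toRingHom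
  have hnat : αB.toRingHom.comp (algebraMap P (R' ⊗[R] P)) = (algebraMap B (R' ⊗[R] B)).comp α.toRingHom := by
    refine RingHom.ext fun a => ?_
    rfl
  have hQ : Q'.comap (algebraMap P (R' ⊗[R] P)) =
      (z'.asIdeal.comap (algebraMap B (R' ⊗[R] B))).comap α.toRingHom := by
    rw [Ideal.comap_comap, Ideal.comap_comap, hnat]
  haveI : Module.Flat R (P ⧸ I) :=
    Module.Flat.of_linearEquiv (Ideal.quotientKerAlgEquivOfSurjective (f := αR) hα).toLinearEquiv
  have hIQ' : I.map (algebraMap P (R' ⊗[R] P)) ≤ Q' := hker ▸ Ideal.ker_le_comap _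
  have hIQ : I ≤ (z'.asIdeal.comap (algebraMap B (R' ⊗[R] B))).comap α.toRingHom := Ideal.ker_le_comap _
  show KRAt (I.map (algebraMap P (R' ⊗[R] P))) Q' ↔
    KRAt I ((z'.asIdeal.comap (algebraMap B (R' ⊗[R] B))).comap α.toRingHom)
  refine ⟨fun h => ?_, fun h => krAt_of_transAt (R' := R') (transAt_of_krAt (R := R) hIQ h) Q' hQ⟩
  -- descent through a field-valued fibre
  let P' := R' ⊗[R] P
  haveI : Algebra.FinitePresentation R' P' := Algebra.FinitePresentation.baseChange R'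
  haveI : Module.Flat R' P' := inferInstance
  haveI : Module.Flat R' (P' ⧸ I.map (algebraMap P P')) := by
    rw [← hker]
    let αR' : P' →ₐ[R'] R' ⊗[R] B := Algebra.TensorProduct.map (AlgHom.id R' R') αR
    exact Module.Flat.of_linearEquiv (Ideal.quotientKerAlgEquivOfSurjective (f := αR') hαB).toLinearEquiv
  obtain ⟨W, hWp, hW⟩ := H9CI.exists_fibre_prime (R := R') Q'
  let K := (Q'.comap (algebraMap R' P')).ResidueField
  let P'' := K ⊗[R'] P'
  letI : Algebra P P'' := ((algebraMap P' P'').comp (algebraMap P P')).toAlgebra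
  haveI : IsScalarTower P P' P'' := IsScalarTower.of_algebraMap_eq' rfl
  haveI : IsScalarTower R P P'' := IsScalarTower.of_algebraMap_eq (R := R) (S := P) (A := P'') fun r => by
    rw [IsScalarTower.algebraMap_apply P P' P'', ← IsScalarTower.algebraMap_apply R P P',
      IsScalarTower.algebraMap_apply R R' P', ← IsScalarTower.algebraMap_apply R' P' P'',
      ← IsScalarTower.algebraMap_apply R R' P'']
  haveI : IsScalarTower R P' P'' := IsScalarTower.to₁₃₄ R P P' P''
  haveI : IsScalarTower R K P'' := IsScalarTower.to₁₃₄ R R' K P''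
  haveI : Algebra.IsPushout R' K P' P'' := TensorProduct.isPushout
  haveI : Algebra.IsPushout R K P P'' :=
    (Algebra.IsPushout.comp_iff (R := R) (S := R') (T := K) (R' := P) (S' := P') (T' := P'')).2 inferInstance
  have hW' : W.comap (algebraMap P' P'') = Q' := hW
  have h'' := krAt_of_transAt (R := R') (R' := K) (P' := P'') (transAt_of_krAt (R := R') hIQ' h) W hW'
  rw [Ideal.map_map, ← IsScalarTower.algebraMap_eq] at h''
  have hle0 := Ideal.map_le_iff_le_comap.2 (hIQ'.trans hW'.ge)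
  rw [Ideal.map_map, ← IsScalarTower.algebraMap_eq] at hle0
  have := krAt_of_fibre (R := R) (P := P) (K := K) (P' := P'') hI W hle0 h''
  rwa [IsScalarTower.algebraMap_eq P P' P'', ← Ideal.comap_comap, hW', hQ] at this

variable {X Y S X' Y' S' : Scheme.{u}}

/-- A cartesian square over affine opens gives an affine open of the base change. -/
theorem exists_affine_chart {R R' A : Type u} [CommRing R] [CommRing R'] [CommRing A] [Algebra R R']
    [Algebra R A] {g : Y ⟶ S} {h : S' ⟶ S} {gY : Y' ⟶ Y} {g' : Y' ⟶ S'} (hY : IsPullback gY g' g h)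
    (jV : Spec (CommRingCat.of R) ⟶ S) [IsOpenImmersion jV]
    (jR : Spec (CommRingCat.of R') ⟶ S') [IsOpenImmersion jR]
    (jA : Spec (CommRingCat.of A) ⟶ Y) [IsOpenImmersion jA]
    (eR : Spec.map (CommRingCat.ofHom (algebraMap R R')) ≫ jV = jR ≫ h)
    (eA : Spec.map (CommRingCat.ofHom (algebraMap R A)) ≫ jV = jA ≫ g) :
    ∃ j : Spec (CommRingCat.of (R' ⊗[R] A)) ⟶ Y', IsOpenImmersion j ∧
      j ≫ gY = Spec.map (CommRingCat.ofHom (algebraMap A (R' ⊗[R] A))) ≫ jA ∧
      j ≫ g' = Spec.map (CommRingCat.ofHom (algebraMap R' (R' ⊗[R] A))) ≫ jR ∧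
      gY ⁻¹' Set.range jA ∩ g' ⁻¹' Set.range jR ⊆ Set.range j := by
  let φ := Spec.map (CommRingCat.ofHom (algebraMap R R'))
  let ψ := Spec.map (CommRingCat.ofHom (algebraMap R A))
  let m : pullback φ ψ ⟶ pullback h g := pullback.map φ ψ h g jR jA jV eR eA
  haveI : IsOpenImmersion m := inferInstanceAs (IsOpenImmersion (pullback.map φ ψ h g jR jA jV eR eA))
  let i := hY.flip.isoPullback
  let e := pullbackSpecIso R R' A
  refine ⟨e.inv ≫ m ≫ i.inv, inferInstance, ?_, ?_, ?_⟩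
  · simp only [m, i, Category.assoc, IsPullback.isoPullback_inv_snd]
    rw [pullback.lift_snd, ← Category.assoc]
    exact congrArg (· ≫ jA) (pullbackSpecIso_inv_snd R R' A)
  · simp only [m, i, Category.assoc, IsPullback.isoPullback_inv_fst]
    rw [pullback.lift_fst, ← Category.assoc]
    exact congrArg (· ≫ jR) (pullbackSpecIso_inv_fst R R' A)
  · rintro y ⟨h1, h2⟩
    have hy : i.hom y ∈ Set.range m := by
      rw [Scheme.Pullback.range_map]
      refine ⟨?_, ?_⟩
      · show (i.hom ≫ pullback.fst h g) y ∈ Set.range jR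
        rw [IsPullback.isoPullback_hom_fst]
        exact h2
      · show (i.hom ≫ pullback.snd h g) y ∈ Set.range jA
        rw [IsPullback.isoPullback_hom_snd]
        exact h1
    obtain ⟨w, hw⟩ := hy
    refine ⟨e.hom w, ?_⟩
    have : (e.hom ≫ e.inv ≫ m ≫ i.inv) w = y := by
      rw [e.hom_inv_id_assoc, Scheme.Hom.comp_apply, hw, ← Scheme.Hom.comp_apply, i.hom_inv_id]
      rfl
    exact this

/-- A point is Koszul iff it has a chart on which the ring map is a local complete intersection. -/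
theorem exists_chart_isLCI_iff (f : X ⟶ Y) (x : X) :
    (∃ (U : X.Opens) (V : Y.Opens) (_ : IsAffineOpen U) (_ : IsAffineOpen V) (hUV : U ≤ f ⁻¹ᵁ V), x ∈ U ∧
      letI := (f.appLE V U hUV).hom.toAlgebra
      LCI.IsLCI Γ(Y, V) Γ(X, U)) ↔ Synt.IsKoszulAt f x := by
  constructor
  · rintro ⟨U, V, hU, hV, hUV, hxU, h⟩
    exact (isKoszulAt_chart_iff f hU hV hUV).2 h x hxU
  · intro h
    obtain ⟨_, ⟨V, hV, rfl⟩, hxV, -⟩ :=
      Y.isBasis_affineOpens.exists_subset_of_mem_open (Set.mem_univ (f x)) isOpen_univ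
    obtain ⟨U, hxU, hUV, hUK⟩ := exists_affine_koszul f x h (f ⁻¹ᵁ V) hxV
    exact ⟨U.1, V, U.2, hV, hUV, hxU, (isKoszulAt_chart_iff f U.2 hV hUV).1 hUK⟩

theorem isOpen_koszul (f : X ⟶ Y) : IsOpen {x : X | Synt.IsKoszulAt f x} := by
  rw [isOpen_iff_forall_mem_open]
  rintro x ⟨U, P, k, π, hxU, h1, h2, h3, h4⟩
  exact ⟨U.1, fun y hy => ⟨U, P, k, π, hy, h1, h2, h3, h4⟩, U.2, hxU⟩

/-- The Koszul locus of a morphism of flat finitely presented schemes over a base commutes with base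
change. -/
theorem isKoszulAt_baseChange_iff (f : X ⟶ Y) (g : Y ⟶ S) [Flat (f ≫ g)] [LocallyOfFinitePresentation (f ≫ g)]
    [Flat g] [LocallyOfFinitePresentation g] (h : S' ⟶ S) (gY : Y' ⟶ Y) (g' : Y' ⟶ S') (hY : IsPullback gY g' g h)
    (gX : X' ⟶ X) (f' : X' ⟶ Y') (hX : IsPullback gX (f' ≫ g') (f ≫ g) h) (w : gX ≫ f = f' ≫ gY) (x' : X') :
    Synt.IsKoszulAt f' x' ↔ Synt.IsKoszulAt f (gX x') := by
  obtain ⟨_, ⟨V, hV, rfl⟩, hxV, -⟩ :=
    S.isBasis_affineOpens.exists_subset_of_mem_open (Set.mem_univ (g (f (gX x')))) isOpen_univ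
  obtain ⟨_, ⟨U, hU, rfl⟩, hxU, hUV⟩ := Y.isBasis_affineOpens.exists_subset_of_mem_open
    (show f (gX x') ∈ (g ⁻¹ᵁ V : Y.Opens).1 from hxV) (g ⁻¹ᵁ V).2
  obtain ⟨_, ⟨O, hO, rfl⟩, hxO, hOU⟩ := X.isBasis_affineOpens.exists_subset_of_mem_open
    (show gX x' ∈ (f ⁻¹ᵁ U : X.Opens).1 from hxU) (f ⁻¹ᵁ U).2
  have hx' : (f' ≫ g') x' ∈ h ⁻¹ᵁ V := by
    show h ((f' ≫ g') x') ∈ V
    rw [← Scheme.Hom.comp_apply, ← hX.w]
    exact hxV
  obtain ⟨_, ⟨W, hW, rfl⟩, hxW, hWV⟩ := S'.isBasis_affineOpens.exists_subset_of_mem_open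
    (show (f' ≫ g') x' ∈ (h ⁻¹ᵁ V : S'.Opens).1 from hx') (h ⁻¹ᵁ V).2
  let R := Γ(S, V)
  let R' := Γ(S', W)
  let A := Γ(Y, U)
  let B := Γ(X, O)
  have hOV : O ≤ (f ≫ g) ⁻¹ᵁ V := fun y hy => hUV (hOU hy)
  letI : Algebra R R' := (h.appLE V W hWV).hom.toAlgebra
  letI : Algebra R A := (g.appLE V U hUV).hom.toAlgebra
  letI : Algebra A B := (f.appLE U O hOU).hom.toAlgebra
  letI : Algebra R B := ((f ≫ g).appLE V O hOV).hom.toAlgebra
  haveI : IsScalarTower R A B := IsScalarTower.of_algebraMap_eq' (by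
    show ((f ≫ g).appLE V O hOV).hom = (f.appLE U O hOU).hom.comp (g.appLE V U hUV).hom
    rw [← Scheme.Hom.appLE_comp_appLE f g V U O hUV hOU]
    rfl)
  haveI : Algebra.FinitePresentation R A :=
    HasRingHomProperty.appLE @LocallyOfFinitePresentation g inferInstance ⟨V, hV⟩ ⟨U, hU⟩ hUV
  haveI : Module.Flat R A := HasRingHomProperty.appLE @Flat g inferInstance ⟨V, hV⟩ ⟨U, hU⟩ hUV
  haveI : Algebra.FinitePresentation R B :=
    HasRingHomProperty.appLE @LocallyOfFinitePresentation (f ≫ g) inferInstance ⟨V, hV⟩ ⟨O, hO⟩ hOV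
  haveI : Module.Flat R B := HasRingHomProperty.appLE @Flat (f ≫ g) inferInstance ⟨V, hV⟩ ⟨O, hO⟩ hOV
  have eR : Spec.map (CommRingCat.ofHom (algebraMap R R')) ≫ hV.fromSpec = hW.fromSpec ≫ h :=
    IsAffineOpen.SpecMap_appLE_fromSpec h hV hW hWV
  have eA : Spec.map (CommRingCat.ofHom (algebraMap R A)) ≫ hV.fromSpec = hU.fromSpec ≫ g :=
    IsAffineOpen.SpecMap_appLE_fromSpec g hV hU hUV
  have eB : Spec.map (CommRingCat.ofHom (algebraMap R B)) ≫ hV.fromSpec = hO.fromSpec ≫ (f ≫ g) :=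
    IsAffineOpen.SpecMap_appLE_fromSpec (f ≫ g) hV hO hOV
  have eAB : Spec.map (CommRingCat.ofHom (algebraMap A B)) ≫ hU.fromSpec = hO.fromSpec ≫ f :=
    IsAffineOpen.SpecMap_appLE_fromSpec f hU hO hOU
  obtain ⟨jY, hjY, hjY1, hjY2, -⟩ := exists_affine_chart hY hV.fromSpec hW.fromSpec hU.fromSpec eR eA
  obtain ⟨jX, hjX, hjX1, hjX2, hjX3⟩ := exists_affine_chart hX hV.fromSpec hW.fromSpec hO.fromSpec eR eB
  haveI := hjY
  haveI := hjX
  let φ := Algebra.TensorProduct.map (AlgHom.id R R') (IsScalarTower.toAlgHom R A B)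
  have hφA : φ.toRingHom.comp (algebraMap A (R' ⊗[R] A)) = (algebraMap B (R' ⊗[R] B)).comp (algebraMap A B) := by
    refine RingHom.ext fun a => ?_
    rfl
  have hφR : φ.toRingHom.comp (algebraMap R' (R' ⊗[R] A)) = algebraMap R' (R' ⊗[R] B) := by
    refine RingHom.ext fun r => ?_
    show φ (r ⊗ₜ[R] (1 : A)) = r ⊗ₜ[R] (1 : B)
    exact congrArg (r ⊗ₜ[R] ·) (map_one (IsScalarTower.toAlgHom R A B))
  have hf' : Spec.map (CommRingCat.ofHom φ.toRingHom) ≫ jY = jX ≫ f' := by
    refine hY.hom_ext ?_ ?_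
    · rw [Category.assoc, hjY1, Category.assoc, ← w, reassoc_of% hjX1, ← eAB, ← Spec.map_comp_assoc,
        ← Spec.map_comp_assoc, ← CommRingCat.ofHom_comp, ← CommRingCat.ofHom_comp, hφA]
    · rw [Category.assoc, hjY2, Category.assoc, hjX2, ← Spec.map_comp_assoc, ← CommRingCat.ofHom_comp, hφR]
  obtain ⟨z', hz'⟩ : x' ∈ Set.range jX := hjX3 ⟨hO.range_fromSpec.ge hxO, hW.range_fromSpec.ge hxW⟩
  have hz : hO.fromSpec (PrimeSpectrum.comap (algebraMap B (R' ⊗[R] B)) z') = gX x' := by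
    rw [← hz', ← Scheme.Hom.comp_apply jX gX, hjX1]
    rfl
  have h1 : Synt.IsKoszulAt f' x' ↔ Synt.IsKoszulAt (Spec.map (CommRingCat.ofHom φ.toRingHom)) z' := by
    rw [← hz', ← isKoszulAt_open_iff jX f' z', ← hf']
    exact ⟨isKoszulAt_of_comp_smooth _ jY z', isKoszulAt_comp_smooth _ jY z'⟩
  have h2 : Synt.IsKoszulAt f (gX x') ↔ Synt.IsKoszulAt (Spec.map (CommRingCat.ofHom (algebraMap A B)))
      (PrimeSpectrum.comap (algebraMap B (R' ⊗[R] B)) z') := by
    rw [← hz, ← isKoszulAt_open_iff hO.fromSpec f, ← eAB]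
    exact ⟨isKoszulAt_of_comp_smooth _ hU.fromSpec _, isKoszulAt_comp_smooth _ hU.fromSpec _⟩
  rw [h1, h2]
  exact affine_baseChange z'

end Groth.Agent.H8Props.KoszImm
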