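import Groth.Agent.H8Props.KoszImm.Ring
import Groth.Agent.H05EGA4.FSFlat
import Groth.Agent.H13CInt.Spread
import Groth.Agent.H29Slice.KoszulReg

/-!
# Maps of finite type between regular rings are local complete intersections
-/

set_option autoImplicit false
set_option linter.style.haveILetI false

universe u

open AlgebraicGeometry CategoryTheory RingTheory.Sequence

namespace Groth.Agent.H8Props.KoszImm

theorem isRegularRing_of_isAffineOpen {S : Scheme.{u}} [IsLocallyNoetherian S] {U : S.Opens}
    (hU : IsAffineOpen U) (hreg : ∀ s : S, IsRegularLocalRing (S.presheaf.stalk s)) :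
    IsRegularRing Γ(S, U) := by
  have : IsNoetherianRing Γ(S, U) := IsLocallyNoetherian.component_noetherian ⟨U, hU⟩
  refine isRegularRing_iff.mpr fun p hp => ?_
  let y := hU.fromSpec ⟨p, hp⟩
  have hy : y ∈ U := hU.range_fromSpec.le ⟨⟨p, hp⟩, rfl⟩
  have hpr : hU.primeIdealOf ⟨y, hy⟩ = ⟨p, hp⟩ := by
    apply hU.fromSpec.isOpenEmbedding.injective
    rw [hU.fromSpec_primeIdealOf]
  let := (S.presheaf.germ U y hy).hom.toAlgebra
  have h1 := hU.isLocalization_stalk ⟨y, hy⟩
  rw [hpr] at h1
  have := hreg y
  exact IsRegularLocalRing.of_ringEquiv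
    (IsLocalization.algEquiv p.primeCompl (S.presheaf.stalk y) (Localization.AtPrime p)).toRingEquiv

/-- The kernel of a surjection of regular rings is a Koszul-regular ideal. -/
theorem isKoszulRegularIdeal_of_regular {P B : Type u} [CommRing P] [CommRing B] [IsRegularRing P]
    [IsRegularRing B] (α : P →+* B) (hα : Function.Surjective α) :
    LCI.IsKoszulRegularIdeal (RingHom.ker α) := by
  rw [isKoszulRegularIdeal_iff]
  intro Q hQ
  obtain ⟨q, rfl⟩ : Q ∈ Set.range (PrimeSpectrum.comap α) := by
    rw [_root_.range_comap_of_surjective _ _ hα]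
    exact hQ
  let L := Localization.AtPrime (q.asIdeal.comap α)
  let π : L →+* Localization.AtPrime q.asIdeal := Localization.localRingHom (q.asIdeal.comap α) q.asIdeal α rfl
  have hT : Submonoid.map α (q.asIdeal.comap α).primeCompl = q.asIdeal.primeCompl := by
    ext x
    constructor
    · rintro ⟨a, ha, rfl⟩; exact ha
    · intro hx
      obtain ⟨a, rfl⟩ := hα x
      exact ⟨a, hx, rfl⟩
  haveI : IsLocalization (Submonoid.map α (q.asIdeal.comap α).primeCompl) (Localization.AtPrime q.asIdeal) := by
    rw [hT]
    infer_instance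
  have hπ : Function.Surjective π := IsLocalization.map_surjective_of_surjective _ _ _ hα
  have hker : RingHom.ker π = (RingHom.ker α).map (algebraMap P L) :=
    IsLocalization.ker_map (S := L) (Localization.AtPrime q.asIdeal) α hT
  obtain ⟨r, g, hg, hreg⟩ := H05EGA4.exists_regular_generators_ker π hπ
  obtain ⟨t, ht, b, hb⟩ := H13CInt.exists_away_isWeaklyRegular (q.asIdeal.comap α) (RingHom.ker α) g hreg
    (hker.symm.trans hg.symm)
  obtain ⟨h1, h2⟩ := hb (Localization.Away t)
  refine ⟨t, ht, List.ofFn (algebraMap P (Localization.Away t) ∘ b),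
    H29Slice.isKoszulRegular_of_isWeaklyRegular h2, h1.trans (congrArg Ideal.span (Set.ext fun x => ?_))⟩
  exact List.mem_ofFn.symm

end Groth.Agent.H8Props.KoszImm
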