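import Groth.Agent.H8Props.KoszImm.Ring

/-!
# Koszul-regular immersions through Koszul-regular ideals of charts
-/

set_option autoImplicit false
set_option linter.style.haveILetI false

universe u

open CategoryTheory CategoryTheory.Limits AlgebraicGeometry TopologicalSpace

namespace Groth.Agent.H8Props.KoszImm

variable {X Z : Scheme.{u}}

/-- The ideal of an immersion on a smaller affine open is generated by that on a larger one. -/
theorem ker_app_of_le (i : Z ⟶ X) (U V : X.affineOpens) (hVU : V.1 ≤ U.1)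
    (hcl : IsClosedImmersion (i ∣_ U.1)) :
    IsClosedImmersion (i ∣_ V.1) ∧
      RingHom.ker (i.app V.1).hom =
        (RingHom.ker (i.app U.1).hom).map (X.presheaf.map (homOfLE hVU).op).hom := by
  have H : IsPullback (𝟙 Z) i i (𝟙 X) := IsPullback.of_horiz_isIso ⟨by simp⟩
  obtain ⟨hcl', hker'⟩ := H29Slice.restrict_baseChange H U.2 hcl V.2 (e := hVU)
  have he : (Scheme.Hom.appLE (𝟙 X) U.1 V.1 hVU) = X.presheaf.map (homOfLE hVU).op := by
    simp only [Scheme.Hom.appLE, Scheme.Hom.id_app]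
    rfl
  exact ⟨hcl', by rw [hker', he]⟩

theorem mem_basicOpen_iff_notMem (U : X.affineOpens) (x : X) (hx : x ∈ U.1) (a : Γ(X, U.1)) :
    x ∈ X.basicOpen a ↔ a ∉ (U.2.primeIdealOf ⟨x, hx⟩).asIdeal := by
  letI : Algebra Γ(X, U.1) (X.presheaf.stalk x) := (X.presheaf.germ U.1 x hx).hom.toAlgebra
  haveI : IsLocalization.AtPrime (X.presheaf.stalk x) (U.2.primeIdealOf ⟨x, hx⟩).asIdeal :=
    U.2.isLocalization_stalk ⟨x, hx⟩
  rw [X.mem_basicOpen a x hx]
  exact IsLocalization.AtPrime.isUnit_to_map_iff (X.presheaf.stalk x) _ a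

/-- An immersion is Koszul-regular at a point iff the ideal of an affine chart is, at the prime of
that point. -/
theorem regAt_iff (i : Z ⟶ X) [IsImmersion i] (z : Z) (U : X.affineOpens) (hz : i z ∈ U.1)
    (hcl : IsClosedImmersion (i ∣_ U.1)) :
    RegImm.IsRegularImmersionAt .koszul i z ↔
      KRAt (RingHom.ker (i.app U.1).hom) (U.2.primeIdealOf ⟨i z, hz⟩).asIdeal := by
  have hk : RegImm.Kind.koszul ≠ RegImm.Kind.regular := by decide
  constructor
  · intro h
    obtain ⟨V, hzV, hVU, hclV, rs, hrs, hker⟩ := H17.RegDescent.exists_chart_le hk i z h U.1 hz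
    obtain ⟨a, haV, hza⟩ := U.2.exists_basicOpen_le (V := V.1) ⟨i z, hzV⟩ hz
    let D : X.affineOpens := X.affineBasicOpen a
    obtain ⟨-, hrD, hkD⟩ := H17.KoszComp.chart_restrict i V D haV hclV hrs hker
    obtain ⟨-, hkU⟩ := ker_app_of_le i U D (X.basicOpen_le a) hcl
    letI : Algebra Γ(X, U.1) Γ(X, D.1) := (X.presheaf.map (homOfLE (X.basicOpen_le a)).op).hom.toAlgebra
    haveI : IsLocalization.Away a Γ(X, D.1) := U.2.isLocalization_basicOpen a
    exact KRAt.of_away ((mem_basicOpen_iff_notMem U (i z) hz a).1 hza) Γ(X, D.1) hrD (hkU.symm.trans hkD)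
  · rintro ⟨a, ha, l, hl, hIl⟩
    let D : X.affineOpens := X.affineBasicOpen a
    obtain ⟨hclD, hkU⟩ := ker_app_of_le i U D (X.basicOpen_le a) hcl
    letI : Algebra Γ(X, U.1) Γ(X, D.1) := (X.presheaf.map (homOfLE (X.basicOpen_le a)).op).hom.toAlgebra
    haveI : IsLocalization.Away a Γ(X, D.1) := U.2.isLocalization_basicOpen a
    let e : Localization.Away a ≃ₐ[Γ(X, U.1)] Γ(X, D.1) :=
      IsLocalization.algEquiv (Submonoid.powers a) _ _
    refine ⟨D, (mem_basicOpen_iff_notMem U (i z) hz a).2 ha, hclD, l.map e.toRingEquiv,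
      reg_of_equiv e.toRingEquiv hl, ?_⟩
    rw [hkU]
    show (RingHom.ker (i.app U.1).hom).map (algebraMap Γ(X, U.1) Γ(X, D.1)) = _
    rw [← (e : Localization.Away a →ₐ[Γ(X, U.1)] Γ(X, D.1)).comp_algebraMap, ← Ideal.map_map, hIl]
    exact (Ideal.map_ofList _ l).trans rfl

end Groth.Agent.H8Props.KoszImm
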