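import Groth.Agent.H8Props.KoszImm.Core

/-!
# Koszul-regular immersions: restriction to opens and factorisations through smooth morphisms
-/

set_option autoImplicit false
set_option linter.style.haveILetI false

universe u

open CategoryTheory CategoryTheory.Limits AlgebraicGeometry TopologicalSpace

namespace Groth.Agent.H8Props.KoszImm

variable {X Y V : Scheme.{u}}

theorem regAt_open_iff {X' : Scheme.{u}} (e : X' ⟶ X) [IsOpenImmersion e] (i : X ⟶ V) [IsImmersion i]
    (x : X') : RegImm.IsRegularImmersionAt .koszul (e ≫ i) x ↔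
      RegImm.IsRegularImmersionAt .koszul i (e x) := by
  obtain ⟨O, hO, hOU⟩ := i.isEmbedding.isInducing.isOpen_iff.1 e.opensRange.isOpen
  have hxO : i (e x) ∈ O := hOU.ge (Set.mem_range_self x)
  obtain ⟨W, hxW, hWO, hcl⟩ := H17.RegDescent.exists_affine_closed i (e x) ⟨O, hO⟩ hxO
  have hle : i ⁻¹ᵁ W.1 ≤ e.opensRange := fun y hy => hOU.le (show i y ∈ O from hWO hy)
  haveI : IsIso (e ∣_ i ⁻¹ᵁ W.1) := by
    haveI : Surjective (e ∣_ i ⁻¹ᵁ W.1) := by
      refine ⟨fun y => ?_⟩
      obtain ⟨a, ha⟩ := hle y.2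
      refine ⟨⟨a, ?_⟩, Subtype.ext ?_⟩
      · show e a ∈ i ⁻¹ᵁ W.1
        rw [ha]
        exact y.2
      · rw [morphismRestrict_base_coe]
        exact ha
    exact (isIso_iff_isOpenImmersion_and_surjective _).2 ⟨inferInstance, inferInstance⟩
  have hcl' : IsClosedImmersion ((e ≫ i) ∣_ W.1) := by
    rw [morphismRestrict_comp]
    exact MorphismProperty.comp_mem _ _ _ (inferInstanceAs (IsClosedImmersion (e ∣_ i ⁻¹ᵁ W.1))) hcl
  haveI : IsIso (e.app (i ⁻¹ᵁ W.1)) := e.isIso_app _ hle
  rw [regAt_iff i (e x) W hxW hcl, regAt_iff (e ≫ i) x W hxW hcl', Scheme.Hom.comp_app]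
  refine iff_of_eq ?_
  congr 1
  exact RingHom.ker_comp_of_injective _
    ((CategoryTheory.ConcreteCategory.bijective_of_isIso (e.app (i ⁻¹ᵁ W.1))).1)

theorem regAt_restrict_iff (U : X.Opens) (i : X ⟶ V) [IsImmersion i] (x : X) (hx : x ∈ U) :
    RegImm.IsRegularImmersionAt .koszul (U.ι ≫ i) ⟨x, hx⟩ ↔ RegImm.IsRegularImmersionAt .koszul i x :=
  regAt_open_iff U.ι i ⟨x, hx⟩

/-- Koszul-regularity of an immersion into a smooth `Y`-scheme does not depend on the immersion. -/
theorem regAt_of_two {U P Z : Scheme.{u}} (k : U ⟶ P) [IsImmersion k] (j : U ⟶ Z) [IsImmersion j]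
    (π : P ⟶ Y) [Smooth π] (p : Z ⟶ Y) [Smooth p] (h : k ≫ π = j ≫ p) (x : U)
    (hk : RegImm.IsRegularImmersionAt .koszul k x) : RegImm.IsRegularImmersionAt .koszul j x := by
  let l : U ⟶ pullback π p := pullback.lift k j h
  haveI : IsImmersion (l ≫ pullback.fst π p) := by
    rw [pullback.lift_fst]
    infer_instance
  haveI : IsImmersion l := IsImmersion.of_comp l (pullback.fst π p)
  exact (regAt_smooth_iff j l (pullback.snd π p) (pullback.lift_snd k j h) x).2
    ((regAt_smooth_iff k l (pullback.fst π p) (pullback.lift_fst k j h) x).1 hk)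

end Groth.Agent.H8Props.KoszImm
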