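import Groth.Agent.H8Props.KoszImm.Local
import Groth.Prelude.Def_RegImm

/-!
# Koszul morphisms and local complete intersection ring maps

`forall_isKoszulAt_Spec_iff`: `Spec B ⟶ Spec A` is Koszul at every point iff `A → B` is a local complete
intersection; `isKoszulAt_chart_iff`: the same on affine opens of a morphism.
-/

set_option autoImplicit false
set_option linter.style.haveILetI false

universe u

open CategoryTheory CategoryTheory.Limits AlgebraicGeometry TopologicalSpace

namespace Groth.Agent.H8Props.KoszImm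

variable {X Y Z : Scheme.{u}}

theorem KRAt.equiv {A Q : Type u} [CommRing A] [CommRing Q] (e : A ≃+* Q) {I P : Ideal Q} (h : KRAt I P) :
    KRAt (I.comap (e : A →+* Q)) (P.comap (e : A →+* Q)) := by
  obtain ⟨g, hg, l, hl, he⟩ := h
  letI : Algebra A Q := (e : A →+* Q).toAlgebra
  have hM : (Submonoid.powers (e.symm g)).map (e : A →* Q) = Submonoid.powers g :=
    (Submonoid.map_powers _ _).trans (by simp)
  let e' : Localization.Away (e.symm g) ≃+* Localization.Away g :=
    IsLocalization.ringEquivOfRingEquiv (Localization.Away (e.symm g)) (Localization.Away g) e hM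
  refine ⟨e.symm g, fun hm => hg (by simpa using Ideal.mem_comap.1 hm), l.map e'.symm,
    reg_of_equiv e'.symm hl, ?_⟩
  have hsq : (algebraMap A (Localization.Away (e.symm g))).comp (e.symm : Q →+* A) =
      (e'.symm : _ →+* _).comp (algebraMap Q (Localization.Away g)) := by
    ext a
    refine e'.injective ?_
    simp [e']
  rw [show I.comap (e : A →+* Q) = I.map (e.symm : Q →+* A) from (Ideal.map_symm e).symm, Ideal.map_map,
    hsq, ← Ideal.map_map, he, Ideal.map_ofList]
  rfl

theorem KRAt.equiv_iff {A Q : Type u} [CommRing A] [CommRing Q] (e : A ≃+* Q) (I P : Ideal Q) :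
    KRAt (I.comap (e : A →+* Q)) (P.comap (e : A →+* Q)) ↔ KRAt I P := by
  refine ⟨fun h => ?_, KRAt.equiv e⟩
  have := h.equiv e.symm
  rwa [Ideal.comap_comap, Ideal.comap_comap, show (e : A →+* Q).comp (e.symm : Q →+* A) = RingHom.id Q from RingHom.ext e.apply_symm_apply,
    Ideal.comap_id, Ideal.comap_id] at this

/-- Koszul-regularity of the closed immersion of a quotient of an affine scheme. -/
theorem regAt_Spec_iff {P B : CommRingCat.{u}} (α : P ⟶ B) (hα : Function.Surjective α.hom)
    (z : Spec B) : RegImm.IsRegularImmersionAt .koszul (Spec.map α) z ↔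
      KRAt (RingHom.ker α.hom) (z.asIdeal.comap α.hom) := by
  haveI : IsClosedImmersion (Spec.map α) := IsClosedImmersion.spec_of_surjective α hα
  let U : (Spec P).affineOpens := ⟨⊤, isAffineOpen_top _⟩
  have hcl : IsClosedImmersion (Spec.map α ∣_ U.1) :=
    IsZariskiLocalAtTarget.restrict (P := @IsClosedImmersion) ‹IsClosedImmersion (Spec.map α)› _
  rw [regAt_iff (Spec.map α) z U trivial hcl]
  let e : Γ(Spec P, ⊤) ≃+* P := (Scheme.ΓSpecIso P).commRingCatIsoToRingEquiv
  rw [← KRAt.equiv_iff e (RingHom.ker α.hom) (z.asIdeal.comap α.hom)]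
  refine iff_of_eq ?_
  congr 1
  · ext a
    rw [RingHom.mem_ker, Ideal.mem_comap, RingHom.mem_ker]
    have hn := congrArg (fun k => k.hom a) (Scheme.ΓSpecIso_naturality α)
    simp only [CommRingCat.hom_comp, RingHom.comp_apply] at hn
    exact (map_eq_zero_iff _ ((ConcreteCategory.bijective_of_isIso (Scheme.ΓSpecIso B).hom).1)).symm.trans
      (Iff.of_eq (congrArg (· = 0) hn))
  · ext a
    rw [Ideal.mem_comap, Ideal.mem_comap, ← not_iff_not,
      ← mem_basicOpen_iff_notMem U _ trivial a, basicOpen_eq_of_affine']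
    exact Iff.rfl

/-- A morphism that becomes Koszul after composing with a smooth morphism is Koszul. -/
theorem isKoszulAt_of_comp_smooth (f : X ⟶ Y) (g : Y ⟶ Z) [Smooth g] (x : X)
    (h : Synt.IsKoszulAt (f ≫ g) x) : Synt.IsKoszulAt f x := by
  obtain ⟨U, P, k, π, hxU, -, hk, hπ, hkπ⟩ := h
  haveI := hk.1
  haveI := hπ
  have hcomm : k ≫ π = (U.ι ≫ f) ≫ g := by rw [hkπ, Category.assoc]
  let l : (U : Scheme) ⟶ pullback π g := pullback.lift k (U.ι ≫ f) hcomm
  haveI : IsImmersion (l ≫ pullback.fst π g) := by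
    rw [pullback.lift_fst]
    infer_instance
  haveI : IsImmersion l := IsImmersion.of_comp l (pullback.fst π g)
  refine ⟨U, _, l, pullback.snd π g, hxU, ?_, ⟨inferInstance, fun z => ?_⟩, inferInstance,
    pullback.lift_snd k _ hcomm⟩
  · rw [← pullback.lift_snd k _ hcomm]
    infer_instance
  · exact (regAt_smooth_iff k l (pullback.fst π g) (pullback.lift_fst k _ hcomm) z).1 (hk.2 z)

/-- Composing with a smooth morphism keeps Koszul points. -/
theorem isKoszulAt_comp_smooth (f : X ⟶ Y) (g : Y ⟶ Z) [Smooth g] (x : X)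
    (h : Synt.IsKoszulAt f x) : Synt.IsKoszulAt (f ≫ g) x := by
  obtain ⟨U, P, k, π, hxU, hft, hk, hπ, hkπ⟩ := h
  haveI := hft
  haveI := hπ
  refine ⟨U, P, k, π ≫ g, hxU, ?_, hk, inferInstance, by rw [reassoc_of% hkπ]⟩
  rw [← Category.assoc]
  infer_instance

/-- Koszul points are local on the source. -/
theorem isKoszulAt_open_iff {X' : Scheme.{u}} (e : X' ⟶ X) [IsOpenImmersion e] (f : X ⟶ Y) (x : X') :
    Synt.IsKoszulAt (e ≫ f) x ↔ Synt.IsKoszulAt f (e x) := by
  constructor
  · rintro ⟨U, P, k, π, hxU, hft, hk, hπ, hkπ⟩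
    haveI := hk.1
    haveI := hft
    let s := (e.isoImage U).inv
    refine ⟨e ''ᵁ U, P, s ≫ k, π, ⟨x, hxU, rfl⟩, ?_, ⟨inferInstance, fun z => ?_⟩, hπ, ?_⟩
    · rw [show (e ''ᵁ U).ι ≫ f = s ≫ (U.ι ≫ e ≫ f) by simp [s]]
      infer_instance
    · exact (regAt_open_iff s k z).2 (hk.2 (s z))
    · simp [s, hkπ]
  · rintro ⟨U, P, k, π, hxU, hft, hk, hπ, hkπ⟩
    haveI := hk.1
    haveI := hft
    refine ⟨e ⁻¹ᵁ U, P, (e ∣_ U) ≫ k, π, hxU, ?_, ⟨inferInstance, fun z => ?_⟩, hπ, ?_⟩
    · rw [← morphismRestrict_ι_assoc e U f]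
      infer_instance
    · exact (regAt_open_iff (e ∣_ U) k z).2 (hk.2 _)
    · rw [Category.assoc, hkπ, morphismRestrict_ι_assoc]

/-- A morphism Koszul at every point is locally of finite type. -/
theorem locallyOfFiniteType_of_isKoszulAt (f : X ⟶ Y) (h : ∀ x, Synt.IsKoszulAt f x) :
    LocallyOfFiniteType f := by
  choose U P k π hxU hft hk hπ hkπ using h
  rw [IsZariskiLocalAtSource.iff_of_iSup_eq_top (P := @LocallyOfFiniteType) U
    (eq_top_iff.2 fun x _ => Opens.mem_iSup.2 ⟨x, hxU x⟩)]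
  exact hft

/-- Every immersion into a smooth scheme of a Koszul morphism is Koszul-regular. -/
theorem regAt_of_isKoszulAt (f : X ⟶ Y) (i : X ⟶ Z) [IsImmersion i] (p : Z ⟶ Y) [Smooth p]
    (h : i ≫ p = f) (x : X) (hx : Synt.IsKoszulAt f x) :
    RegImm.IsRegularImmersionAt .koszul i x := by
  obtain ⟨U, P, k, π, hxU, -, hk, hπ, hkπ⟩ := hx
  haveI := hk.1
  haveI := hπ
  refine (regAt_restrict_iff U i x hxU).1 ?_
  refine regAt_of_two k (U.ι ≫ i) π p ?_ _ (hk.2 ⟨x, hxU⟩)
  rw [hkπ, Category.assoc, h]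

section Spec

variable {A B : Type u} [CommRing A] [CommRing B] [Algebra A B]

local notation "fB" => Spec.map (CommRingCat.ofHom (algebraMap A B))

theorem smooth_mvPolynomial (n : ℕ) :
    Smooth (Spec.map (CommRingCat.ofHom (algebraMap A (MvPolynomial (Fin n) A)))) := by
  rw [HasRingHomProperty.Spec_iff (P := @Smooth)]
  exact RingHom.smooth_algebraMap.mpr (show Algebra.Smooth A (MvPolynomial (Fin n) A) from ⟨inferInstance, inferInstance⟩)

theorem specMap_comp {n : ℕ} (α : MvPolynomial (Fin n) A →ₐ[A] B) :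
    Spec.map (CommRingCat.ofHom α.toRingHom) ≫
      Spec.map (CommRingCat.ofHom (algebraMap A (MvPolynomial (Fin n) A))) = fB := by
  rw [← Spec.map_comp, ← CommRingCat.ofHom_comp]
  congr 2
  exact α.comp_algebraMap

/-- Every presentation of a Koszul ring map has Koszul-regular kernel. -/
theorem isKoszulRegularIdeal_ker (h : ∀ z, Synt.IsKoszulAt fB z) {n : ℕ}
    (α : MvPolynomial (Fin n) A →ₐ[A] B) (hα : Function.Surjective α) :
    LCI.IsKoszulRegularIdeal (RingHom.ker α.toRingHom) := by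
  rw [isKoszulRegularIdeal_iff]
  intro P hP
  have hmem : P ∈ Set.range (PrimeSpectrum.comap α.toRingHom) := by
    rw [_root_.range_comap_of_surjective _ _ hα]
    exact hP
  obtain ⟨z, rfl⟩ := hmem
  haveI : IsClosedImmersion (Spec.map (CommRingCat.ofHom α.toRingHom)) :=
    IsClosedImmersion.spec_of_surjective _ hα
  haveI := smooth_mvPolynomial (A := A) n
  exact (regAt_Spec_iff (CommRingCat.ofHom α.toRingHom) hα z).1
    (regAt_of_isKoszulAt fB (Spec.map (CommRingCat.ofHom α.toRingHom)) _ (specMap_comp α) z (h z))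

theorem forall_isKoszulAt_Spec_iff : (∀ z, Synt.IsKoszulAt fB z) ↔ LCI.IsLCI A B := by
  constructor
  · intro h
    haveI := locallyOfFiniteType_of_isKoszulAt _ h
    have hft : (algebraMap A B).FiniteType :=
      (HasRingHomProperty.Spec_iff (P := @LocallyOfFiniteType)).1 ‹_›
    have hft' : Algebra.FiniteType A B := RingHom.finiteType_algebraMap.1 hft
    obtain ⟨n, α, hα⟩ := Algebra.FiniteType.iff_quotient_mvPolynomial''.1 hft'
    exact ⟨hft', n, α, hα, isKoszulRegularIdeal_ker h α hα⟩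
  · rintro ⟨hft, n, α, hα, hker⟩ z
    haveI : IsClosedImmersion (Spec.map (CommRingCat.ofHom α.toRingHom)) :=
      IsClosedImmersion.spec_of_surjective _ hα
    haveI := smooth_mvPolynomial (A := A) n
    haveI : LocallyOfFiniteType fB := by
      rw [HasRingHomProperty.Spec_iff (P := @LocallyOfFiniteType)]
      exact RingHom.finiteType_algebraMap.2 hft
    refine ⟨⊤, _, (⊤ : (Spec (.of B)).Opens).ι ≫ Spec.map (CommRingCat.ofHom α.toRingHom), _, trivial,
      inferInstance, ⟨inferInstance, fun w => ?_⟩, inferInstance,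
      by rw [Category.assoc, specMap_comp]⟩
    let w' : Spec (CommRingCat.of B) := (⊤ : (Spec (CommRingCat.of B)).Opens).ι w
    refine (regAt_open_iff _ _ w).2 ((regAt_Spec_iff (CommRingCat.ofHom α.toRingHom) hα w').2 ?_)
    exact (isKoszulRegularIdeal_iff _).1 hker (PrimeSpectrum.comap α.toRingHom w')
      (Ideal.ker_le_comap _)

end Spec

/-- On affine opens: Koszul at every point iff the ring map is a local complete intersection. -/
theorem isKoszulAt_chart_iff (f : X ⟶ Y) {U : X.Opens} {V : Y.Opens} (hU : IsAffineOpen U)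
    (hV : IsAffineOpen V) (e : U ≤ f ⁻¹ᵁ V) :
    (∀ x ∈ U, Synt.IsKoszulAt f x) ↔
      letI := (f.appLE V U e).hom.toAlgebra
      LCI.IsLCI Γ(Y, V) Γ(X, U) := by
  letI := (f.appLE V U e).hom.toAlgebra
  rw [← forall_isKoszulAt_Spec_iff]
  have hsq : Spec.map (CommRingCat.ofHom (algebraMap Γ(Y, V) Γ(X, U))) ≫ hV.fromSpec = hU.fromSpec ≫ f :=
    IsAffineOpen.SpecMap_appLE_fromSpec f hV hU e
  constructor
  · intro h z
    refine isKoszulAt_of_comp_smooth _ hV.fromSpec z ?_
    rw [hsq, isKoszulAt_open_iff]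
    exact h _ (hU.range_fromSpec.le (Set.mem_range_self z))
  · intro h x hx
    obtain ⟨z, rfl⟩ := hU.range_fromSpec.ge hx
    rw [← isKoszulAt_open_iff, ← hsq]
    exact isKoszulAt_comp_smooth _ _ z (h z)

end Groth.Agent.H8Props.KoszImm
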