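import Groth.Agent.H8Props.KoszImm.Regular
import Groth.Agent.H29Slice.QRegular

/-!
# Regular sequences cutting out a regular quotient: both steps of a local complete intersection over a
regular intermediate ring are regular
-/

set_option autoImplicit false
set_option linter.style.haveILetI false

universe u

open IsLocalRing RingTheory.Sequence
open scoped Pointwise

namespace Groth.Agent.H8Props.KoszImm

/-- An element of an ideal not in its product with the maximal ideal replaces a generator. -/
theorem exists_split {A : Type u} [CommRing A] [IsLocalRing A] :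
    ∀ (fs : List A) (x : A), x ∈ Ideal.ofList fs → x ∉ maximalIdeal A * Ideal.ofList fs →
      ∃ (l₁ : List A) (f : A) (l₂ : List A) (u c : A), fs = l₁ ++ f :: l₂ ∧ IsUnit u ∧
        c ∈ Ideal.ofList (l₁ ++ l₂) ∧ x = u * f + c := by
  intro fs
  induction fs with
  | nil =>
    intro x hx hx'
    rw [Ideal.ofList_nil, Ideal.mem_bot] at hx
    exact absurd (hx ▸ zero_mem _) hx'
  | cons f t ih =>
    intro x hx hx'
    rw [Ideal.ofList_cons, Submodule.mem_sup] at hx
    obtain ⟨y, hy, c, hc, rfl⟩ := hx
    obtain ⟨a, rfl⟩ := Ideal.mem_span_singleton'.1 hy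
    by_cases ha : IsUnit a
    · exact ⟨[], f, t, a, c, rfl, ha, hc, rfl⟩
    have haf : a * f ∈ maximalIdeal A * Ideal.ofList (f :: t) :=
      Ideal.mul_mem_mul ha (Ideal.subset_span List.mem_cons_self)
    have hc' : c ∉ maximalIdeal A * Ideal.ofList t := fun h => hx' (add_mem haf
      (Ideal.mul_mono_right (Ideal.span_mono fun z (hz : z ∈ t) => List.mem_cons_of_mem _ hz) h))
    obtain ⟨l₁, g, l₂, u, c', rfl, hu, hc'', rfl⟩ := ih c hc hc'
    refine ⟨f :: l₁, g, l₂, u, a * f + c', rfl, hu, ?_, by ring⟩
    rw [List.cons_append, Ideal.ofList_cons]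
    exact add_mem (Ideal.mem_sup_left (Ideal.mul_mem_left _ a (Ideal.mem_span_singleton_self f)))
      (Ideal.mem_sup_right hc'')

/-- An ideal contained in the product of the maximal ideal with a proper ideal, with regular quotient,
is zero. -/
theorem eq_bot_of_le_sq {A : Type u} [CommRing A] [IsLocalRing A] [IsNoetherianRing A] (J : Ideal A)
    (hJ : J ≤ maximalIdeal A ^ 2) [IsRegularLocalRing (A ⧸ J)] : J = ⊥ := by
  let q := Ideal.Quotient.mk J
  have hJm : J ≤ maximalIdeal A := hJ.trans (Ideal.pow_le_self two_ne_zero)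
  haveI : Nontrivial (A ⧸ J) := inferInstance
  have hmap : (maximalIdeal A).map q = maximalIdeal (A ⧸ J) := by
    refine (Ideal.map_eq_top_or_isMaximal_of_surjective q Ideal.Quotient.mk_surjective
      (IsLocalRing.maximalIdeal.isMaximal A)).resolve_left (fun h => ?_) |> IsLocalRing.eq_maximalIdeal
    have := congrArg (Ideal.comap q) h
    rw [Ideal.comap_map_of_surjective' q Ideal.Quotient.mk_surjective, Ideal.mk_ker, sup_eq_left.2 hJm,
      Ideal.comap_top] at this
    exact (IsLocalRing.maximalIdeal.isMaximal A).ne_top this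
  -- minimal generators of the maximal ideal of the quotient lift to generators
  obtain ⟨s, hscard, hspan⟩ := Submodule.FG.exists_span_finset_card_eq_spanFinrank
    (IsNoetherian.noetherian (maximalIdeal (A ⧸ J)))
  classical
  choose lift hlift using fun z : A ⧸ J => Ideal.Quotient.mk_surjective (I := J) z
  let t : Finset A := s.image lift
  have hm : maximalIdeal A ≤ Ideal.span (t : Set A) := by
    refine Submodule.le_of_le_smul_of_le_jacobson_bot (IsNoetherian.noetherian _)
      (maximalIdeal_le_jacobson _) fun a ha => ?_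
    have h1 : q a ∈ (Ideal.span (t : Set A)).map q := by
      rw [Ideal.map_span, Finset.coe_image, ← Set.image_comp]
      have : (fun z => q (lift z)) '' (s : Set (A ⧸ J)) = (s : Set (A ⧸ J)) := by
        simp only [q, hlift, Set.image_id']
      rw [show (⇑q ∘ lift) = fun z => q (lift z) from rfl, this]
      have h2 : q a ∈ maximalIdeal (A ⧸ J) := hmap ▸ Ideal.mem_map_of_mem q ha
      rw [← hspan] at h2
      exact h2
    rw [← Ideal.mem_comap, Ideal.comap_map_of_surjective' q Ideal.Quotient.mk_surjective, Ideal.mk_ker] at h1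
    rw [smul_eq_mul, ← pow_two]
    exact sup_le_sup_left hJ _ h1
  have hle : Submodule.spanFinrank (maximalIdeal A) ≤ Submodule.spanFinrank (maximalIdeal (A ⧸ J)) := by
    have heq : maximalIdeal A = Submodule.span A (t : Set A) := by
      refine le_antisymm hm (Ideal.span_le.2 fun z hz => ?_)
      obtain ⟨w, hw, rfl⟩ := Finset.mem_image.1 (Finset.mem_coe.1 hz)
      have h3 : q (lift w) ∈ maximalIdeal (A ⧸ J) := by
        rw [show q (lift w) = w from hlift w, ← hspan]
        exact Ideal.subset_span hw
      rw [← hmap, ← Ideal.mem_comap, Ideal.comap_map_of_surjective' q Ideal.Quotient.mk_surjective,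
        Ideal.mk_ker, sup_eq_left.2 hJm] at h3
      exact h3
    rw [heq]
    refine (Submodule.spanFinrank_span_le_ncard_of_finite t.finite_toSet).trans ?_
    rw [Set.ncard_coe_finset]
    exact Finset.card_image_le.trans hscard.le
  have hdim : ringKrullDim (A ⧸ J) ≤ ringKrullDim A :=
    ringKrullDim_le_of_surjective q Ideal.Quotient.mk_surjective
  have hreg : ((maximalIdeal (A ⧸ J)).spanFinrank : WithBot ℕ∞) = ringKrullDim (A ⧸ J) :=
    IsRegularLocalRing.spanFinrank_maximalIdeal
  haveI : IsRegularLocalRing A := IsRegularLocalRing.of_spanFinrank_maximalIdeal_le A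
    (le_trans (by exact_mod_cast hle) (hreg.le.trans hdim))
  have hAeq : ringKrullDim A ≤ ringKrullDim (A ⧸ J) := by
    rw [← hreg, ← IsRegularLocalRing.spanFinrank_maximalIdeal (R := A)]
    exact_mod_cast hle
  haveI : IsDomain A := H4Depth.isDomain_of_isRegularLocalRing A
  by_contra hne
  obtain ⟨x, hx, hx0⟩ := Submodule.exists_mem_ne_zero_of_ne_bot hne
  have h1 := ringKrullDim_quotient_succ_le_of_nonZeroDivisor (mem_nonZeroDivisors_of_ne_zero hx0)
  have h2 : ringKrullDim (A ⧸ J) ≤ ringKrullDim (A ⧸ Ideal.span {x}) :=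
    ringKrullDim_le_of_surjective (Ideal.Quotient.factor ((Ideal.span_singleton_le_iff_mem J).2 hx))
      (Ideal.Quotient.factor_surjective _)
  have h3 : ringKrullDim A + 1 ≤ ringKrullDim A := le_trans (by gcongr; exact hAeq.trans h2) h1
  rw [← IsRegularLocalRing.spanFinrank_maximalIdeal (R := A)] at h3
  have h4 : (maximalIdeal A).spanFinrank + 1 ≤ (maximalIdeal A).spanFinrank := by exact_mod_cast h3
  omega

/-- Regular sequences of a ring modulo an element. -/
theorem isWeaklyRegular_cons_quotient_iff {A : Type u} [CommRing A] (x : A) (rs : List A) :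
    IsWeaklyRegular A (x :: rs) ↔ IsSMulRegular A x ∧
      IsWeaklyRegular (A ⧸ Ideal.span {x}) (rs.map (Ideal.Quotient.mk (Ideal.span {x}))) := by
  rw [isWeaklyRegular_cons_iff, ← Ideal.Quotient.algebraMap_eq, isWeaklyRegular_map_algebraMap_iff]
  have h : (x • (⊤ : Submodule A A)) = Ideal.span {x} := by
    rw [← Submodule.ideal_span_singleton_smul]
    exact Ideal.mul_top _
  exact and_congr_right fun _ => LinearEquiv.isWeaklyRegular_congr (Submodule.quotEquivOfEq _ _ h) rs

/-- If a proper ideal generated by a regular sequence contains an ideal with regular quotient, both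
ideals are generated by regular sequences. -/
theorem exists_regular_append : ∀ (n : ℕ) {A : Type u} [CommRing A] [IsLocalRing A] [IsNoetherianRing A]
    (J : Ideal A) (fs : List A), fs.length = n → J ≤ Ideal.ofList fs → (∀ a ∈ fs, a ∈ maximalIdeal A) →
      IsWeaklyRegular A fs → IsRegularLocalRing (A ⧸ J) →
      ∃ gs hs : List A, Ideal.ofList gs = J ∧ Ideal.ofList (gs ++ hs) = Ideal.ofList fs ∧
        IsWeaklyRegular A (gs ++ hs) := by
  intro n
  induction n using Nat.strong_induction_on with
  | _ n ih =>
    intro A _ _ _ J fs hn hJ hfm hreg hJreg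
    haveI := hJreg
    have hIm : Ideal.ofList fs ≤ maximalIdeal A := Ideal.span_le.2 hfm
    by_cases hle : J ≤ maximalIdeal A * Ideal.ofList fs
    · have hbot : J = ⊥ := eq_bot_of_le_sq J (hle.trans (by rw [pow_two]; exact Ideal.mul_mono_right hIm))
      exact ⟨[], fs, by simp [hbot], rfl, hreg⟩
    obtain ⟨x, hxJ, hx⟩ := SetLike.not_le_iff_exists.1 hle
    obtain ⟨l₁, f, l₂, u, c, rfl, hu, hc, hxu⟩ := exists_split fs x (hJ hxJ) hx
    have hperm : (l₁ ++ f :: l₂).Perm ((l₁ ++ l₂) ++ [f]) := by
      refine List.perm_middle.trans ?_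
      exact (List.perm_append_singleton f (l₁ ++ l₂)).symm
    have hr1 := IsLocalRing.isWeaklyRegular_of_perm_of_subset_maximalIdeal hreg hperm hfm
    have hIeq : Ideal.ofList (x :: (l₁ ++ l₂)) = Ideal.ofList (l₁ ++ f :: l₂) := by
      rw [Ideal.ofList_cons, H17.RegDescent.ofList_perm List.perm_middle, Ideal.ofList_cons]
      refine le_antisymm (sup_le ?_ le_sup_right) (sup_le ?_ le_sup_right)
      · rw [Ideal.span_singleton_le_iff_mem, hxu]
        exact add_mem (Ideal.mem_sup_left (Ideal.mul_mem_left _ u (Ideal.mem_span_singleton_self f)))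
          (Ideal.mem_sup_right hc)
      · rw [Ideal.span_singleton_le_iff_mem, ← Ideal.unit_mul_mem_iff_mem _ hu,
          show u * f = x - c by rw [hxu]; ring]
        exact sub_mem (Ideal.mem_sup_left (Ideal.mem_span_singleton_self x)) (Ideal.mem_sup_right hc)
    have hr2 : IsWeaklyRegular A ((l₁ ++ l₂) ++ [x]) := by
      rw [isWeaklyRegular_append_iff] at hr1 ⊢
      refine ⟨hr1.1, ?_⟩
      rw [isWeaklyRegular_singleton_iff] at hr1 ⊢
      intro a b hab
      refine hr1.2 (hu.smul_left_cancel.1 ?_)
      obtain ⟨a, rfl⟩ := Submodule.Quotient.mk_surjective _ a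
      obtain ⟨b, rfl⟩ := Submodule.Quotient.mk_surjective _ b
      simp only [← Submodule.Quotient.mk_smul, Submodule.Quotient.eq, smul_eq_mul] at hab ⊢
      have hca : c * (a - b) ∈ Ideal.ofList (l₁ ++ l₂) • (⊤ : Submodule A A) :=
        Submodule.smul_mem_smul hc Submodule.mem_top
      have := sub_mem hab hca
      rw [show x * a - x * b - c * (a - b) = u * (f * a) - u * (f * b) by rw [hxu]; ring] at this
      exact this
    have hmem : ∀ a ∈ (l₁ ++ l₂) ++ [x], a ∈ maximalIdeal A := fun a ha => by
      rcases List.mem_append.1 ha with ha | ha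
      · exact hfm a (hperm.mem_iff.2 (List.mem_append_left _ ha))
      · rw [List.mem_singleton.1 ha]
        exact hIm (hJ hxJ)
    have hr3 : IsWeaklyRegular A (x :: (l₁ ++ l₂)) :=
      IsLocalRing.isWeaklyRegular_of_perm_of_subset_maximalIdeal hr2 (List.perm_append_singleton x _) hmem
    rw [isWeaklyRegular_cons_quotient_iff] at hr3
    -- pass to the quotient by `x`
    let q := Ideal.Quotient.mk (Ideal.span {x})
    have hxJ' : Ideal.span {x} ≤ J := (Ideal.span_singleton_le_iff_mem J).2 hxJ
    haveI : Nontrivial (A ⧸ Ideal.span {x}) := Ideal.Quotient.nontrivial_iff.2 fun h =>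
      (IsLocalRing.maximalIdeal.isMaximal A).ne_top
        (top_le_iff.1 (h.symm.le.trans (hxJ'.trans (hJ.trans hIm))))
    haveI : IsLocalRing (A ⧸ Ideal.span {x}) := IsLocalRing.of_surjective' q Ideal.Quotient.mk_surjective
    obtain ⟨gs', hs', hgJ, hgI, hgreg⟩ := ih (l₁ ++ l₂).length
      (by rw [← hn]; simp) (J.map q) ((l₁ ++ l₂).map q) (List.length_map q)
      (by
        rw [← Ideal.map_ofList, Ideal.map_le_iff_le_comap, Ideal.comap_map_of_surjective' q
          Ideal.Quotient.mk_surjective, Ideal.mk_ker, sup_comm, ← Ideal.ofList_cons, hIeq]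
        exact hJ)
      (fun a ha => by
        obtain ⟨a, ha', rfl⟩ := List.mem_map.1 ha
        haveI : IsLocalHom q := IsLocalHom.of_surjective q Ideal.Quotient.mk_surjective
        exact fun h => (hfm a (hperm.mem_iff.2 (List.mem_append_left _ ha'))) (h.of_map q a))
      hr3.2
      (IsRegularLocalRing.of_ringEquiv (DoubleQuot.quotQuotEquivQuotOfLE hxJ').symm)
    obtain ⟨gs, rfl⟩ := List.map_surjective_iff.2 Ideal.Quotient.mk_surjective gs'
    obtain ⟨hs, rfl⟩ := List.map_surjective_iff.2 Ideal.Quotient.mk_surjective hs'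
    have key : ∀ (l : List A) (K : Ideal A), Ideal.span {x} ≤ K → Ideal.ofList (l.map q) = K.map q →
        Ideal.ofList (x :: l) = K := by
      intro l K hK h
      rw [← Ideal.map_ofList] at h
      have h' := congrArg (Ideal.comap q) h
      rw [Ideal.comap_map_of_surjective' q Ideal.Quotient.mk_surjective,
        Ideal.comap_map_of_surjective' q Ideal.Quotient.mk_surjective, Ideal.mk_ker, sup_eq_left.2 hK] at h'
      rw [Ideal.ofList_cons, sup_comm]
      exact h'
    refine ⟨x :: gs, hs, key gs J hxJ' hgJ, ?_, ?_⟩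
    · refine key (gs ++ hs) _ (hxJ'.trans hJ) ?_
      rw [List.map_append, hgI, ← hIeq, Ideal.ofList_cons, Ideal.map_sup, Ideal.map_quotient_self, bot_sup_eq,
        Ideal.map_ofList]
    · rw [List.cons_append, isWeaklyRegular_cons_quotient_iff, List.map_append]
      exact ⟨hr3.1, hgreg⟩

/-- For a surjection onto a regular ring followed by a surjection with Koszul-regular kernel, both
kernels are Koszul-regular. -/
theorem krAt_pair {P B C : Type u} [CommRing P] [IsNoetherianRing P] [CommRing B] [IsRegularRing B]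
    [CommRing C] (α : P →+* B) (hα : Function.Surjective α) (β : B →+* C)
    (h : LCI.IsKoszulRegularIdeal (RingHom.ker (β.comp α))) (q : PrimeSpectrum B)
    (hq : RingHom.ker β ≤ q.asIdeal) :
    KRAt (RingHom.ker α) (q.asIdeal.comap α) ∧ KRAt (RingHom.ker β) q.asIdeal := by
  classical
  let Q := q.asIdeal.comap α
  let I := RingHom.ker (β.comp α)
  have hIQ : I ≤ Q := fun a ha => hq ha
  obtain ⟨t₀, ht₀, f, hfI, hf, hIf⟩ :=
    ((isKoszulRegularIdeal_iff I).1 h ⟨Q, inferInstance⟩ hIQ).exists_chart
  let L := Localization.AtPrime Q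
  let Lq := Localization.AtPrime q.asIdeal
  let π : L →+* Lq := Localization.localRingHom Q q.asIdeal α rfl
  have hT : Submonoid.map α Q.primeCompl = q.asIdeal.primeCompl := by
    ext z
    constructor
    · rintro ⟨a, ha, rfl⟩; exact ha
    · intro hz
      obtain ⟨a, rfl⟩ := hα z
      exact ⟨a, hz, rfl⟩
  haveI : IsLocalization (Submonoid.map α Q.primeCompl) Lq := by rw [hT]; infer_instance
  have hπ : Function.Surjective π := IsLocalization.map_surjective_of_surjective _ _ _ hα
  have hker : RingHom.ker π = (RingHom.ker α).map (algebraMap P L) :=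
    IsLocalization.ker_map (S := L) Lq α hT
  have hπc : π.comp (algebraMap P L) = (algebraMap B Lq).comp α := IsLocalization.map_comp _
  -- the regular sequence in the local ring
  have hfQ : ∀ a ∈ f, algebraMap P L a ∈ maximalIdeal L := fun a ha =>
    (IsLocalization.AtPrime.to_map_mem_maximal_iff L Q a).2 (hIQ (hfI a ha))
  have hu : IsUnit (algebraMap P L t₀) := IsLocalization.map_units L (⟨t₀, ht₀⟩ : Q.primeCompl)
  letI : Algebra (Localization.Away t₀) L := (IsLocalization.Away.lift t₀ hu).toAlgebra
  haveI : IsScalarTower P (Localization.Away t₀) L :=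
    IsScalarTower.of_algebraMap_eq fun a => (IsLocalization.Away.lift_eq t₀ hu a).symm
  haveI : Module.Flat P L := IsLocalization.flat L Q.primeCompl
  haveI : Module.Flat (Localization.Away t₀) L :=
    (Module.flat_iff_of_isLocalization (Localization.Away t₀) (Submonoid.powers t₀) L).2 inferInstance
  have hmap : (f.map (algebraMap P (Localization.Away t₀))).map (algebraMap (Localization.Away t₀) L) =
      f.map (algebraMap P L) := by
    rw [List.map_map, ← RingHom.coe_comp, ← IsScalarTower.algebraMap_eq]
  have hfL : LCI.IsKoszulRegularSeq L (f.map (algebraMap P L)) :=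
    hmap ▸ H17.KoszulBC.isKoszulRegularSeq_map L hf
  have hIL : I.map (algebraMap P L) = Ideal.ofList (f.map (algebraMap P L)) := by
    rw [IsScalarTower.algebraMap_eq P (Localization.Away t₀) L, ← Ideal.map_map, hIf, Ideal.map_ofList,
      hmap, ← IsScalarTower.algebraMap_eq]
  have hwr : IsWeaklyRegular L (f.map (algebraMap P L)) := by
    rw [← List.ofFn_get (l := f.map (algebraMap P L))]
    refine H29Slice.isWeaklyRegular_of_isQuasiRegular L _ (fun i => ?_)
      (H17.RegDescent.quasi_of_seq (k := RegImm.Kind.koszul) (by decide) hfL)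
    obtain ⟨a, ha, he⟩ := List.mem_map.1 (List.get_mem (f.map (algebraMap P L)) i)
    rw [← he]
    exact maximalIdeal_le_jacobson _ (hfQ a ha)
  haveI : IsRegularLocalRing (L ⧸ RingHom.ker π) :=
    IsRegularLocalRing.of_ringEquiv (R := Lq) (RingHom.quotientKerEquivOfSurjective hπ).symm
  obtain ⟨gs, hs, hgJ, hgI, hgr⟩ := exists_regular_append _ (RingHom.ker π) (f.map (algebraMap P L)) rfl
    (by
      rw [hker, ← hIL]
      refine Ideal.map_mono fun a (ha : α a = 0) => ?_
      show β (α a) = 0
      rw [ha, map_zero])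
    (fun a ha => by obtain ⟨a, ha', rfl⟩ := List.mem_map.1 ha; exact hfQ a ha') hwr inferInstance
  rw [isWeaklyRegular_append_iff] at hgr
  refine ⟨?_, ?_⟩
  · obtain ⟨t, ht, b, hb⟩ := H13CInt.exists_away_isWeaklyRegular Q (RingHom.ker α) gs.get
      (by rw [List.ofFn_get]; exact hgr.1)
      (by
        rw [← hker, ← hgJ]
        exact congrArg Ideal.span (Set.ext fun z => by simp [List.mem_iff_get]))
    obtain ⟨h1, h2⟩ := hb (Localization.Away t)
    exact ⟨t, ht, List.ofFn (algebraMap P (Localization.Away t) ∘ b),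
      H29Slice.isKoszulRegular_of_isWeaklyRegular h2,
      h1.trans (congrArg Ideal.span (Set.ext fun z => List.mem_ofFn.symm))⟩
  · have hr : IsWeaklyRegular Lq (hs.map π) := by
      letI := π.toAlgebra
      rw [← RingHom.algebraMap_toAlgebra π, isWeaklyRegular_map_algebraMap_iff]
      refine (LinearEquiv.isWeaklyRegular_congr ?_ hs).1 hgr.2
      exact (Submodule.quotEquivOfEq _ _ (show _ = RingHom.ker π by
          rw [smul_eq_mul, Ideal.mul_top, hgJ])).trans
        (LinearEquiv.ofBijective (Submodule.liftQ (RingHom.ker π) (Algebra.linearMap L Lq) (fun z hz => hz))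
          ⟨LinearMap.ker_eq_bot.1 (Submodule.ker_liftQ_eq_bot _ _ _ fun z hz => hz),
            fun z => ⟨Submodule.Quotient.mk (hπ z).choose, (hπ z).choose_spec⟩⟩)
    have hI' : (RingHom.ker β).map (algebraMap B Lq) = Ideal.ofList (hs.map π) := by
      have e1 : RingHom.ker β = I.map α := by
        rw [show I = (RingHom.ker β).comap α from (RingHom.comap_ker β α).symm,
          Ideal.map_comap_of_surjective α hα]
      rw [e1, Ideal.map_map, ← hπc, ← Ideal.map_map, hIL, ← hgI, Ideal.ofList_append, Ideal.map_sup, hgJ]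
      rw [(Ideal.map_eq_bot_iff_le_ker π).2 le_rfl, bot_sup_eq, Ideal.map_ofList]
    obtain ⟨t, ht, b, hb⟩ := H13CInt.exists_away_isWeaklyRegular q.asIdeal (RingHom.ker β) (hs.map π).get
      (by rw [List.ofFn_get]; exact hr)
      (by rw [hI']; exact congrArg Ideal.span (Set.ext fun z => List.mem_iff_get))
    obtain ⟨h1, h2⟩ := hb (Localization.Away t)
    exact ⟨t, ht, List.ofFn (algebraMap B (Localization.Away t) ∘ b),
      H29Slice.isKoszulRegular_of_isWeaklyRegular h2,
      h1.trans (congrArg Ideal.span (Set.ext fun z => List.mem_ofFn.symm))⟩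

end Groth.Agent.H8Props.KoszImm
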