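import Groth.Agent.H8Props.KoszImm.LCI
import Groth.Agent.S9169
import Groth.Agent.H29Slice.QRegular
import Groth.Agent.H29Slice.SeqOps
import Groth.Agent.H9CI.Syntomic
import Groth.Agent.H9CI.RelGCIProps

/-!
# Syntomic ring maps and flat local complete intersections
-/

set_option autoImplicit false
set_option linter.style.haveILetI false

universe u

open scoped TensorProduct
open RingTheory.Sequence

namespace Groth.Agent.H8Props.KoszImm

/-- Koszul-regular ideals are finitely generated. -/
theorem isKoszulRegularIdeal_fg {P : Type u} [CommRing P] {I : Ideal P} (h : LCI.IsKoszulRegularIdeal I) :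
    I.FG := by
  classical
  have key : ∀ Q : PrimeSpectrum P, ∃ g, g ∉ Q.asIdeal ∧ ∃ s : Finset P, (∀ a ∈ s, a ∈ I) ∧
      ∀ x ∈ I, ∃ N : ℕ, g ^ N * x ∈ Ideal.span (s : Set P) := by
    intro Q
    by_cases hQ : I ≤ Q.asIdeal
    · obtain ⟨g, hg, f, hf, -, he⟩ := KRAt.exists_chart (I := I) (P := Q.asIdeal) (h Q hQ)
      refine ⟨g, hg, f.toFinset, fun a ha => hf a (List.mem_toFinset.1 ha), fun x hx => ?_⟩
      have h1 : algebraMap P (Localization.Away g) x ∈
          (Ideal.ofList f).map (algebraMap P (Localization.Away g)) := by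
        rw [Ideal.map_ofList, ← he]
        exact Ideal.mem_map_of_mem _ hx
      obtain ⟨N, hN⟩ := mem_map_away (g := g) h1
      exact ⟨N, by simpa [Ideal.ofList] using hN⟩
    · obtain ⟨g, hgI, hg⟩ := SetLike.not_le_iff_exists.1 hQ
      exact ⟨g, hg, {g}, by simpa using hgI, fun x _ => ⟨1, Ideal.mul_mem_right _ _
        (by rw [pow_one]; exact Ideal.subset_span (by simp))⟩⟩
  choose g hg s hs hgs using key
  have htop : Ideal.span (Set.range g) = ⊤ := by
    by_contra hne
    obtain ⟨m, hm, hle⟩ := Ideal.exists_le_maximal _ hne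
    exact hg ⟨m, hm.isPrime⟩ (hle (Ideal.subset_span ⟨_, rfl⟩))
  obtain ⟨t, ht, ht1⟩ := Submodule.mem_span_finite_of_mem_span (htop ▸ Submodule.mem_top : (1 : P) ∈ _)
  choose Q hQ using fun a : t => ht a.2
  refine ⟨t.attach.biUnion fun a => s (Q a), le_antisymm (Submodule.span_le.2 fun a ha => ?_) fun x hx => ?_⟩
  · obtain ⟨b, -, hb⟩ := Finset.mem_biUnion.1 (Finset.mem_coe.1 ha)
    exact hs _ a hb
  refine Submodule.mem_of_span_eq_top_of_smul_pow_mem _ (t : Set P) (top_le_iff.1
    (Ideal.span_singleton_one.ge.trans ((Ideal.span_singleton_le_iff_mem _).2 ht1))) x ?_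
  rintro ⟨a, ha⟩
  obtain ⟨N, hN⟩ := hgs (Q ⟨a, ha⟩) x hx
  refine ⟨N, Ideal.span_mono (Finset.coe_subset.2 (Finset.subset_biUnion_of_mem
    (fun a => s (Q a)) (Finset.mem_attach t ⟨a, ha⟩))) ?_⟩
  rw [smul_eq_mul]
  rwa [hQ ⟨a, ha⟩] at hN

attribute [local instance] MvPolynomial.algebraMvPolynomial in
/-- A chart of a presentation by a Koszul-regular sequence with flat quotient gives a regular sequence
on the fibre. -/
theorem weaklyRegular_fibre {R : Type u} [CommRing R] {n : ℕ} (p : Ideal R) [p.IsPrime]
    (g : MvPolynomial (Fin n) R) (f : List (MvPolynomial (Fin n) R))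
    (hreg : LCI.IsKoszulRegularSeq (Localization.Away g) (f.map (algebraMap _ (Localization.Away g))))
    [Module.Flat R (Localization.Away g ⧸ Ideal.ofList (f.map (algebraMap _ (Localization.Away g))))]
    (P : Ideal (MvPolynomial (Fin n) p.ResidueField)) [P.IsPrime]
    (hg : MvPolynomial.map (algebraMap R p.ResidueField) g ∉ P)
    (hf : ∀ a ∈ f, MvPolynomial.map (algebraMap R p.ResidueField) a ∈ P) :
    IsWeaklyRegular (Localization.AtPrime P) (f.map fun a =>
      algebraMap (MvPolynomial (Fin n) p.ResidueField) (Localization.AtPrime P)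
        (MvPolynomial.map (algebraMap R p.ResidueField) a)) := by
  let κ := p.ResidueField
  let A := MvPolynomial (Fin n) R
  let B := MvPolynomial (Fin n) κ
  let T := Localization.Away g
  let g' : B := algebraMap A B g
  let T' := Localization.Away g'
  letI : Algebra T T' := (IsLocalization.Away.map T T' (algebraMap A B) g).toAlgebra
  haveI : IsScalarTower A T T' := IsScalarTower.of_algebraMap_eq fun a => by
    show _ = IsLocalization.Away.map T T' (algebraMap A B) g (algebraMap A T a)
    rw [IsScalarTower.algebraMap_apply A B T']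
    exact (IsLocalization.map_eq _ a).symm
  haveI : IsScalarTower R T T' := IsScalarTower.to₁₃₄ R A T T'
  haveI : IsLocalization (Algebra.algebraMapSubmonoid B (Submonoid.powers g)) T' := by
    rw [Algebra.algebraMapSubmonoid, Submonoid.map_powers]
    infer_instance
  haveI : Algebra.IsPushout A B T T' := Algebra.isPushout_of_isLocalization (Submonoid.powers g) T B T'
  haveI : Algebra.IsPushout R κ T T' := by
    rw [Algebra.IsPushout.comm]
    exact (Algebra.IsPushout.comp_iff (R := R) (S := A) (T := T) (R' := κ) (S' := B) (T' := T')).2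
      (Algebra.IsPushout.symm inferInstance)
  have hk : RegImm.Kind.koszul ≠ RegImm.Kind.regular := by decide
  have h1 : RegImm.Kind.quasi.Seq T' ((f.map (algebraMap A T)).map (algebraMap T T')) :=
    H29Slice.seq_pushout (Or.inr rfl) R T κ T' (H17.RegDescent.quasi_of_seq hk hreg)
  let L := Localization.AtPrime P
  have hu : IsUnit (algebraMap B L g') := IsLocalization.map_units L (⟨g', hg⟩ : P.primeCompl)
  letI : Algebra T' L := (IsLocalization.Away.lift g' hu).toAlgebra
  haveI : IsScalarTower B T' L :=
    IsScalarTower.of_algebraMap_eq fun b => (IsLocalization.Away.lift_eq g' hu b).symm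
  haveI : Module.Flat T' L := (Module.flat_iff_of_isLocalization T' (Submonoid.powers g') L).2 inferInstance
  have h2 : RegImm.Kind.quasi.Seq L (((f.map (algebraMap A T)).map (algebraMap T T')).map (algebraMap T' L)) :=
    H17.RegDescent.seq_flat' (by decide) L h1
  have hlist : ((f.map (algebraMap A T)).map (algebraMap T T')).map (algebraMap T' L) =
      f.map fun a => algebraMap B L (MvPolynomial.map (algebraMap R κ) a) := by
    simp only [List.map_map]
    refine List.map_congr_left fun a _ => ?_
    simp only [Function.comp_apply]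
    rw [← IsScalarTower.algebraMap_apply A T T', IsScalarTower.algebraMap_apply A B T',
      ← IsScalarTower.algebraMap_apply B T' L]
    rfl
  rw [hlist] at h2
  rw [← List.ofFn_get (f.map _)]
  refine H29Slice.isWeaklyRegular_of_isQuasiRegular L _ (fun i => ?_) h2
  rw [IsLocalRing.jacobson_eq_maximalIdeal _ bot_ne_top]
  obtain ⟨a, ha, he⟩ := List.mem_map.1 (List.get_mem (f.map fun a =>
    algebraMap B L (MvPolynomial.map (algebraMap R κ) a)) i)
  rw [← he]
  exact (IsLocalization.AtPrime.to_map_mem_maximal_iff L P _).2 (hf a ha)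

variable (R S : Type u) [CommRing R] [CommRing S] [Algebra R S]

/-- The fibre local rings of a flat local complete intersection are complete intersections. -/
theorem isCIOver_fibre_of_flat_isLCI [Module.Flat R S] {n : ℕ} (α : MvPolynomial (Fin n) R →ₐ[R] S)
    (hα : Function.Surjective α) (hI : LCI.IsKoszulRegularIdeal (RingHom.ker α.toRingHom))
    (p : Ideal R) [p.IsPrime] (Q : Ideal (p.Fiber S)) [Q.IsPrime] :
    Synt.IsCIOver p.ResidueField (Localization.AtPrime Q) := by
  classical
  let A := MvPolynomial (Fin n) R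
  let κ := p.ResidueField
  let B := MvPolynomial (Fin n) κ
  let π : A →+* B := MvPolynomial.map (algebraMap R κ)
  obtain ⟨c, F, hF⟩ := Submodule.fg_iff_exists_fin_generating_family.1 (isKoszulRegularIdeal_fg hI)
  obtain ⟨ψ, hψ, hkψ, hψX⟩ := H9Synt.exists_presentation_baseChange κ α hα F hF.symm
  let inc : S →ₐ[R] p.Fiber S := Algebra.TensorProduct.includeRight
  have hcomm : ∀ a, ψ (π a) = inc (α a) := by
    refine fun a => RingHom.congr_fun (MvPolynomial.ringHom_ext (f := ψ.toRingHom.comp π)
      (g := inc.toRingHom.comp α.toRingHom) (fun r => ?_) fun i => ?_) a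
    · show ψ (MvPolynomial.map (algebraMap R κ) (MvPolynomial.C r)) = inc (α (MvPolynomial.C r))
      rw [MvPolynomial.map_C, MvPolynomial.algHom_C, MvPolynomial.algHom_C, AlgHom.commutes,
        ← IsScalarTower.algebraMap_apply]
    · show ψ (MvPolynomial.map (algebraMap R κ) (MvPolynomial.X i)) = inc (α (MvPolynomial.X i))
      rw [MvPolynomial.map_X, hψX]
      rfl
  let P : Ideal B := Q.comap ψ.toRingHom
  let q : Ideal S := Q.comap inc.toRingHom
  let PA : Ideal A := q.comap α.toRingHom
  have hP : ∀ a, π a ∈ P ↔ a ∈ PA := fun a => by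
    show ψ (π a) ∈ Q ↔ inc (α a) ∈ Q
    rw [hcomm]
  have hIP : RingHom.ker α.toRingHom ≤ PA := fun a ha => by
    show inc (α a) ∈ Q
    rw [show α a = 0 from ha, map_zero]
    exact zero_mem _
  haveI : PA.IsPrime := Ideal.IsPrime.comap _
  obtain ⟨g, hg, f, hfI, hreg, hIf⟩ := KRAt.exists_chart (hI ⟨PA, inferInstance⟩ hIP)
  let T := Localization.Away g
  haveI : Module.Flat R (T ⧸ Ideal.ofList (f.map (algebraMap A T))) := by
    rw [← hIf]
    let S' := Localization.Away (α g)
    let αT : T →ₐ[R] S' :=
      { IsLocalization.Away.map T S' α.toRingHom g with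
        commutes' := fun r => by
          show IsLocalization.Away.map T S' α.toRingHom g (algebraMap R T r) = algebraMap R S' r
          rw [IsScalarTower.algebraMap_apply R A T, IsLocalization.Away.map, IsLocalization.map_eq,
            IsScalarTower.algebraMap_apply R S S']
          exact congrArg _ (α.commutes r) }
    haveI : IsLocalization ((Submonoid.powers g).map α.toRingHom) S' := by
      rw [show (Submonoid.powers g).map α.toRingHom = Submonoid.powers (α g) from Submonoid.map_powers _ _]
      infer_instance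
    have hsurj : Function.Surjective αT := IsLocalization.map_surjective_of_surjective _ _ _ hα
    have hker : RingHom.ker αT.toRingHom = (RingHom.ker α.toRingHom).map (algebraMap A T) :=
      IsLocalization.ker_map (S := T) S' α.toRingHom (Submonoid.map_powers _ _)
    haveI : Module.Flat S S' := IsLocalization.flat S' (Submonoid.powers (α g))
    haveI : Module.Flat R S' := Module.Flat.trans R S S'
    rw [← hker]
    exact Module.Flat.of_linearEquiv (Ideal.quotientKerAlgEquivOfSurjective hsurj).toLinearEquiv
  have hgP : π g ∉ P := fun h => hg ((hP g).1 h)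
  have hw := weaklyRegular_fibre p g f hreg P hgP fun a ha => (hP a).2 (hIP (hfI a ha))
  let L := Localization.AtPrime P
  let φ : L →ₐ[κ] Localization.AtPrime Q := Localization.localAlgHom P Q ψ rfl
  have hT : Submonoid.map ψ.toRingHom P.primeCompl = Q.primeCompl := by
    ext x
    constructor
    · rintro ⟨a, ha, rfl⟩; exact ha
    · intro hx
      obtain ⟨a, rfl⟩ := hψ x
      exact ⟨a, hx, rfl⟩
  haveI : IsLocalization (Submonoid.map ψ.toRingHom P.primeCompl) (Localization.AtPrime Q) := by
    rw [hT]
    infer_instance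
  have hφ : Function.Surjective φ := IsLocalization.map_surjective_of_surjective _ _ _ hψ
  haveI : Algebra.EssFiniteType κ L :=
    haveI : Algebra.EssFiniteType B L := .of_isLocalization _ P.primeCompl
    Algebra.EssFiniteType.comp κ B L
  haveI : IsRegularLocalRing L := inferInstance
  let rs := f.map fun a => algebraMap B L (π a)
  have hmem : ∀ r ∈ rs, r ∈ IsLocalRing.maximalIdeal L := fun r hr => by
    obtain ⟨a, ha, rfl⟩ := List.mem_map.1 hr
    exact (IsLocalization.AtPrime.to_map_mem_maximal_iff L P _).2 ((hP a).2 (hIP (hfI a ha)))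
  have hne : Ideal.ofList rs ≠ ⊤ := fun h =>
    (IsLocalRing.maximalIdeal.isMaximal L).ne_top (top_le_iff.1 (h ▸ Ideal.span_le.2 hmem))
  have hker : RingHom.ker φ.toRingHom = Ideal.ofList rs := by
    have hkT : RingHom.ker φ.toRingHom = (RingHom.ker ψ.toRingHom).map (algebraMap B L) :=
      IsLocalization.ker_map (S := L) (Localization.AtPrime Q) ψ.toRingHom hT
    have hu : IsUnit ((algebraMap B L).comp π g) := IsLocalization.map_units L (⟨π g, hgP⟩ : P.primeCompl)
    rw [hkT, hkψ, show Ideal.span (Set.range fun i => MvPolynomial.map (algebraMap R κ) (F i)) =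
      (RingHom.ker α.toRingHom).map π by rw [← hF, Ideal.map_span, ← Set.range_comp]; rfl,
      Ideal.map_map, ← IsLocalization.Away.lift_comp (S := T) g hu, ← Ideal.map_map, hIf, Ideal.map_ofList,
      List.map_map, ← RingHom.coe_comp, IsLocalization.Away.lift_comp]
    rfl
  have hreg' : RingTheory.Sequence.IsRegular L rs := ⟨hw, by
      rw [ne_eq, smul_eq_mul, Ideal.mul_top]
      exact hne.symm⟩
  refine (H9CI.isCIOver_iff φ hφ).2 ?_
  exact H9CI.isCIKer_of_isRegular (R := L) _ hφ rs hreg' hker

/-- Syntomic is flat and local complete intersection. -/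
theorem isSyntomic_iff : Synt.IsSyntomic R S ↔ Module.Flat R S ∧ LCI.IsLCI R S := by
  constructor
  · intro h
    refine ⟨h.1, forall_isKoszulAt_Spec_iff.1 fun z => ?_⟩
    obtain ⟨g, hg, n, c, F, hF, ⟨e⟩⟩ := H9CI.exists_isRelGCI_away_of_isSyntomic h z.asIdeal
    let α : MvPolynomial (Fin n) R →ₐ[R] Localization.Away g :=
      e.symm.toAlgHom.comp (Ideal.Quotient.mkₐ R (Ideal.span (Set.range F)))
    have hα : Function.Surjective α := e.symm.surjective.comp Ideal.Quotient.mk_surjective
    have hk : RingHom.ker α.toRingHom = Ideal.ofList (List.ofFn F) := by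
      refine ((RingHom.ker_comp_of_injective (Ideal.Quotient.mkₐ R (Ideal.span (Set.range F))).toRingHom
        (f := e.symm.toAlgHom.toRingHom) e.symm.injective).trans Ideal.mk_ker).trans ?_
      exact congrArg Ideal.span (Set.ext fun x => List.mem_ofFn.symm)
    have hl : LCI.IsLCI R (Localization.Away g) := by
      refine ⟨Algebra.FiniteType.of_surjective α hα, n, α, hα, fun P _ => ?_⟩
      refine ⟨1, fun h1 => P.isPrime.ne_top ((Ideal.eq_top_iff_one _).2 h1),
        (List.ofFn F).map (algebraMap _ (Localization.Away (1 : MvPolynomial (Fin n) R))), ?_, ?_⟩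
      · haveI : Module.Flat (MvPolynomial (Fin n) R) (Localization.Away (1 : MvPolynomial (Fin n) R)) :=
          IsLocalization.flat _ (Submonoid.powers 1)
        exact H17.KoszulBC.isKoszulRegularSeq_map _ (H9CI.isKoszulRegularSeq_relGCI F hF)
      · rw [hk, Ideal.map_ofList]
    obtain ⟨w, hw⟩ : z ∈ Set.range (PrimeSpectrum.comap (algebraMap S (Localization.Away g))) := by
      rw [PrimeSpectrum.localization_away_comap_range (Localization.Away g) g]
      exact hg
    have hK := forall_isKoszulAt_Spec_iff.2 hl w
    rw [IsScalarTower.algebraMap_eq R S (Localization.Away g), CommRingCat.ofHom_comp,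
      AlgebraicGeometry.Spec.map_comp] at hK
    haveI : AlgebraicGeometry.IsOpenImmersion
        (AlgebraicGeometry.Spec.map (CommRingCat.ofHom (algebraMap S (Localization.Away g)))) :=
      AlgebraicGeometry.IsOpenImmersion.of_isLocalization g
    rw [← hw]
    exact (isKoszulAt_open_iff
      (AlgebraicGeometry.Spec.map (CommRingCat.ofHom (algebraMap S (Localization.Away g))))
      (AlgebraicGeometry.Spec.map (CommRingCat.ofHom (algebraMap R S))) w).1 hK
  · rintro ⟨hflat, hft, n, α, hα, hI⟩
    haveI := hflat
    haveI : Algebra.FinitePresentation R S :=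
      Algebra.FinitePresentation.of_surjective hα (isKoszulRegularIdeal_fg hI)
    refine H9CI.isSyntomic_of_forall_prime fun q _ => ?_
    obtain ⟨Q, hQp, hQ⟩ := H9CI.exists_fibre_prime (R := R) q
    haveI : q.LiesOver (q.comap (algebraMap R S)) := ⟨rfl⟩
    haveI : Module.Flat S (Localization.AtPrime q) := IsLocalization.flat _ q.primeCompl
    haveI : Algebra.FinitePresentation S (Localization.Away (1 : S)) :=
      IsLocalization.Away.finitePresentation (1 : S)
    exact (Groth.Agent.S9169.result R S (q.comap (algebraMap R S)) q Q hQ).2.2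
      ⟨1, fun h1 => ‹q.IsPrime›.ne_top ((Ideal.eq_top_iff_one _).2 h1),
        Algebra.FinitePresentation.trans R S _, Module.Flat.trans R S _,
        isCIOver_fibre_of_flat_isLCI R S α hα hI _ Q⟩

end Groth.Agent.H8Props.KoszImm
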