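import Groth.Agent.H8Props.KoszImm.Syntomic
import Groth.Agent.H13CI.Syntomic

/-!
# Syntomic morphisms and flat Koszul morphisms
-/

set_option autoImplicit false
set_option linter.style.haveILetI false

universe u

open CategoryTheory AlgebraicGeometry

namespace Groth.Agent.H8Props.KoszImm

variable {X S : Scheme.{u}} (f : X ⟶ S)

/-- Syntomic morphisms are the flat Koszul morphisms. -/
theorem isSyntomicMor_iff : Synt.IsSyntomicMor f ↔ Flat f ∧ ∀ x, Synt.IsKoszulAt f x := by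
  constructor
  · intro h
    refine ⟨(H13CI.flat_lfp_of_isSyntomicMor h).1, fun x => ?_⟩
    obtain ⟨U, V, e, hxU, hs⟩ := h x
    letI := (f.appLE V.1 U.1 e).hom.toAlgebra
    exact (isKoszulAt_chart_iff f U.2 V.2 e).2 ((isSyntomic_iff _ _).1 hs).2 x hxU
  · rintro ⟨hf, h⟩ x
    obtain ⟨_, ⟨V, hV, rfl⟩, hxV, -⟩ :=
      S.isBasis_affineOpens.exists_subset_of_mem_open (Set.mem_univ (f x)) isOpen_univ
    obtain ⟨_, ⟨U, hU, rfl⟩, hxU, hUV⟩ :=
      X.isBasis_affineOpens.exists_subset_of_mem_open (show x ∈ (f ⁻¹ᵁ V : X.Opens).1 from hxV) (f ⁻¹ᵁ V).2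
    refine ⟨⟨U, hU⟩, ⟨V, hV⟩, hUV, hxU, ?_⟩
    letI := (f.appLE V U hUV).hom.toAlgebra
    exact (isSyntomic_iff _ _).2 ⟨HasRingHomProperty.appLE @Flat f hf ⟨V, hV⟩ ⟨U, hU⟩ hUV,
      (isKoszulAt_chart_iff f hU hV hUV).1 fun y _ => h y⟩

/-- For flat morphisms locally of finite presentation, Koszul at every point is the fibrewise complete
intersection condition. -/
theorem forall_isKoszulAt_iff_isCIMorphism [Flat f] :
    (∀ x, Synt.IsKoszulAt f x) ↔ CInt.IsCIMorphism f := by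
  rw [← H13CI.isSyntomicMor_iff_isCIMorphism, isSyntomicMor_iff]
  exact ⟨fun h => ⟨inferInstance, h⟩, fun h => h.2⟩

end Groth.Agent.H8Props.KoszImm
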