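import Groth.Agent.H8Props.KoszImm.SmoothRing

/-!
# Koszul-regular ideals and smooth algebras
-/

set_option autoImplicit false
set_option linter.style.haveILetI false

universe u

namespace Groth.Agent.H8Props.KoszImm

/-- `KRAt` is local. -/
theorem KRAt.iff_away {A : Type u} [CommRing A] (I P : Ideal A) [P.IsPrime] (a : A) (ha : a ∉ P)
    (A' : Type u) [CommRing A'] [Algebra A A'] [IsLocalization.Away a A'] (P' : Ideal A') [P'.IsPrime]
    (hP' : P'.under A = P) :
    KRAt I P ↔ KRAt (I.map (algebraMap A A')) P' := by
  constructor
  · intro h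
    obtain ⟨g, hg, f, -, hf, hIf⟩ := h.exists_chart
    have hg' : algebraMap A A' g ∉ P' := fun hm => hg (by rw [← hP']; exact hm)
    let T := Localization.Away (algebraMap A A' g)
    haveI : IsLocalization.Away (g * a) T := IsLocalization.Away.mul A' T a g
    obtain ⟨h1, h2⟩ := chart_restrict (g' := g * a) (dvd_mul_right g a) hf hIf T
    refine KRAt.of_away hg' T h1 ?_
    rw [Ideal.map_map, ← IsScalarTower.algebraMap_eq]
    exact h2
  · rintro ⟨g', hg', l, hl, he⟩
    obtain ⟨n, g, hgg⟩ := IsLocalization.Away.surj a g'
    let T := Localization.Away g'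
    have hu : IsUnit (algebraMap A A' a ^ n) := (IsLocalization.Away.algebraMap_isUnit a).pow n
    haveI : IsLocalization.Away (algebraMap A A' g) T :=
      IsLocalization.Away.of_associated (r := g') ⟨hu.unit, by simpa using hgg⟩
    haveI : IsLocalization.Away (g * a) T := IsLocalization.Away.mul A' T a g
    have hg : g ∉ P := by
      intro hm
      rw [← hP'] at hm
      have : algebraMap A A' g ∈ P' := hm
      rw [← hgg] at this
      rcases (Ideal.IsPrime.mem_or_mem ‹_› this) with h | h
      · exact hg' h
      · exact (Ideal.IsPrime.ne_top ‹P'.IsPrime›) (Ideal.eq_top_of_isUnit_mem _ h hu)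
    refine KRAt.of_away (fun hm => (Ideal.IsPrime.mem_or_mem ‹P.IsPrime› hm).elim hg ha) T hl ?_
    rwa [IsScalarTower.algebraMap_eq A A' T, ← Ideal.map_map]

/-- A surjection from a smooth algebra has Koszul-regular kernel at a point iff the surjection from the
base does at the point below. -/
theorem smooth_iff' {A B E : Type u} [CommRing A] [CommRing B] [CommRing E] [Algebra A B] [Algebra A E]
    [Algebra.Smooth A B] (β : B →ₐ[A] E) (hα : Function.Surjective (algebraMap A E))
    (P : Ideal B) [P.IsPrime] (hP : RingHom.ker β.toRingHom ≤ P) :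
    KRAt (RingHom.ker (algebraMap A E)) (P.under A) ↔ KRAt (RingHom.ker β.toRingHom) P := by
  obtain ⟨s, hs, hstd⟩ := (show (algebraMap A B).Smooth from
    RingHom.smooth_algebraMap.2 inferInstance).locally_isStandardSmooth
  obtain ⟨g, hgs, hgP⟩ : ∃ g ∈ s, g ∉ P := by
    by_contra! hall
    exact ‹P.IsPrime›.ne_top (top_le_iff.1 (hs ▸ Ideal.span_le.2 hall))
  obtain ⟨a, ha⟩ := hα (β g)
  have haP : a ∉ P.under A := fun hm => hgP (by
    have h1 : g - algebraMap A B a ∈ P := hP (show β (g - algebraMap A B a) = 0 by
      rw [map_sub, β.commutes, ha, sub_self])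
    have := add_mem h1 (show algebraMap A B a ∈ P from hm)
    rwa [sub_add_cancel] at this)
  let γ : B := g * algebraMap A B a
  have hγ : γ ∉ P := fun hm => (Ideal.IsPrime.mem_or_mem ‹_› hm).elim hgP haP
  let Bg := Localization.Away g
  let B' := Localization.Away (algebraMap A Bg a)
  haveI : IsLocalization.Away γ B' := by
    haveI : IsLocalization.Away (algebraMap B Bg (algebraMap A B a)) B' := by
      rw [← IsScalarTower.algebraMap_apply A B Bg]
      infer_instance
    exact IsLocalization.Away.mul' Bg B' g (algebraMap A B a)
  let A' := Localization.Away a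
  let E' := Localization.Away (algebraMap A E a)
  have huB : IsUnit (algebraMap A B' a) := by
    rw [IsScalarTower.algebraMap_apply A Bg B']
    exact IsLocalization.Away.algebraMap_isUnit _
  have huE : IsUnit (algebraMap A E' a) := by
    rw [IsScalarTower.algebraMap_apply A E E']
    exact IsLocalization.Away.algebraMap_isUnit _
  letI : Algebra A' B' := (IsLocalization.Away.lift a huB).toAlgebra
  haveI : IsScalarTower A A' B' :=
    IsScalarTower.of_algebraMap_eq fun x => (IsLocalization.Away.lift_eq a huB x).symm
  letI : Algebra A' E' := (IsLocalization.Away.lift a huE).toAlgebra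
  haveI : IsScalarTower A A' E' :=
    IsScalarTower.of_algebraMap_eq fun x => (IsLocalization.Away.lift_eq a huE x).symm
  -- standard smoothness
  haveI : IsLocalization (Algebra.algebraMapSubmonoid Bg (Submonoid.powers a)) B' := by
    rw [Algebra.algebraMapSubmonoid, Submonoid.map_powers]
    infer_instance
  haveI : Algebra.IsPushout A Bg A' B' :=
    Algebra.isPushout_of_isLocalization (Submonoid.powers a) A' Bg B'
  have hstd' : (algebraMap A' B').IsStandardSmooth := by
    refine RingHom.isStandardSmooth_isStableUnderBaseChange A Bg A' B' ?_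
    have := hstd g hgs
    rwa [← IsScalarTower.algebraMap_eq A B Bg] at this
  -- the surjections
  have hβγ : β γ = algebraMap A E a * algebraMap A E a := by
    simp only [γ, map_mul, β.commutes, ha]
  let ι : E →+* E' := algebraMap E E'
  have huγ : IsUnit ((ι.comp β.toRingHom) γ) := by
    show IsUnit (ι (β γ))
    rw [hβγ, map_mul]
    exact (IsLocalization.Away.algebraMap_isUnit _).mul (IsLocalization.Away.algebraMap_isUnit _)
  let b : B' →+* E' := IsLocalization.Away.lift γ huγ
  let β' : B' →ₐ[A'] E' :=
    { b with
      commutes' := fun x => by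
        refine RingHom.congr_fun (IsLocalization.ringHom_ext (Submonoid.powers a)
          (j := b.comp (algebraMap A' B')) (k := algebraMap A' E') (RingHom.ext fun y => ?_)) x
        simp only [RingHom.comp_apply, ← IsScalarTower.algebraMap_apply]
        rw [IsScalarTower.algebraMap_apply A B B']
        erw [IsLocalization.Away.lift_eq]
        show ι (β (algebraMap A B y)) = _
        rw [β.commutes, ← IsScalarTower.algebraMap_apply] }
  haveI : IsLocalization ((Submonoid.powers a).map (algebraMap A E)) E' := by
    rw [Submonoid.map_powers]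
    infer_instance
  have hA' : algebraMap A' E' = IsLocalization.map E' (algebraMap A E)
      ((Submonoid.powers a).le_comap_map) := by
    refine IsLocalization.ringHom_ext (Submonoid.powers a) (RingHom.ext fun y => ?_)
    simp only [RingHom.comp_apply, IsLocalization.map_eq, ← IsScalarTower.algebraMap_apply]
  have hα' : Function.Surjective (algebraMap A' E') := by
    rw [hA']
    exact IsLocalization.map_surjective_of_surjective _ _ _ hα
  have hkα : RingHom.ker (algebraMap A' E') = (RingHom.ker (algebraMap A E)).map (algebraMap A A') := by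
    rw [hA']
    exact IsLocalization.ker_map _ (algebraMap A E) rfl
  have hkβ : RingHom.ker β'.toRingHom = (RingHom.ker β.toRingHom).map (algebraMap B B') := by
    show RingHom.ker b = _
    refine le_antisymm (fun y hy => ?_) (Ideal.map_le_iff_le_comap.2 fun x hx => ?_)
    · obtain ⟨n, x, hx⟩ := IsLocalization.Away.surj γ y
      have h0 : algebraMap E E' (β x) = 0 := by
        have := congrArg b hx
        rw [map_mul, show b y = 0 from hy, zero_mul] at this
        exact ((IsLocalization.Away.lift_eq γ huγ x).symm.trans this.symm : _)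
      obtain ⟨⟨_, m, rfl⟩, hm⟩ :=
        (IsLocalization.map_eq_zero_iff (Submonoid.powers (algebraMap A E a)) E' _).1 h0
      have hz : algebraMap A B a ^ m * x ∈ RingHom.ker β.toRingHom := by
        show β (algebraMap A B a ^ m * x) = 0
        rw [map_mul, map_pow, β.commutes]
        exact hm
      have hu1 : IsUnit (algebraMap B B' γ ^ n) := (IsLocalization.Away.algebraMap_isUnit γ).pow n
      have hu2 : IsUnit (algebraMap B B' (algebraMap A B a) ^ m) := by
        rw [← IsScalarTower.algebraMap_apply]
        exact huB.pow m
      rw [← Ideal.unit_mul_mem_iff_mem _ hu1, mul_comm, hx, ← Ideal.unit_mul_mem_iff_mem _ hu2,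
        ← map_pow, ← map_mul]
      exact Ideal.mem_map_of_mem _ hz
    · show b (algebraMap B B' x) = 0
      erw [IsLocalization.Away.lift_eq]
      show ι (β x) = 0
      rw [show β x = 0 from hx, map_zero]
  -- the points
  let P' : Ideal B' := P.map (algebraMap B B')
  have hd := Ideal.disjoint_powers_iff_notMem (y := γ) ‹P.IsPrime›.isRadical |>.mpr hγ
  haveI : P'.IsPrime := IsLocalization.isPrime_of_isPrime_disjoint (Submonoid.powers γ) B' P ‹_› hd
  have hP'u : P'.under B = P := IsLocalization.under_map_of_isPrime_disjoint _ B' ‹_› hd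
  have hpA : (P'.under A').under A = P.under A := by
    rw [Ideal.under_under, ← Ideal.under_under (B := B), hP'u]
  have hP' : RingHom.ker β'.toRingHom ≤ P' := by
    rw [hkβ]
    exact Ideal.map_mono hP
  rw [KRAt.iff_away _ (P.under A) a haP A' (P'.under A') hpA, ← hkα,
    KRAt.iff_away _ P γ hγ B' P' hP'u, ← hkβ]
  exact smooth_iff hstd' β' hα' P' hP'

end Groth.Agent.H8Props.KoszImm
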