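import Groth.Agent.H8Props.KoszImm.Bridge
import Groth.Agent.H8Props.KoszImm.SmoothLocal

/-!
# Koszul-regular immersions and smooth morphisms

For immersions `i : X ⟶ V`, `j : X ⟶ V'` with `j ≫ p = i` and `p` smooth, `i` is Koszul-regular iff `j`
is, point by point.
-/

set_option autoImplicit false
set_option linter.style.haveILetI false

universe u

open CategoryTheory CategoryTheory.Limits AlgebraicGeometry TopologicalSpace

namespace Groth.Agent.H8Props.KoszImm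

theorem ker_appLE_of_eq {X Y : Scheme.{u}} (j : X ⟶ Y) (W : Y.Opens) (T : X.Opens) (e : T = j ⁻¹ᵁ W) :
    RingHom.ker (j.appLE W T e.le).hom = RingHom.ker (j.app W).hom := by
  subst e
  rw [Scheme.Hom.appLE_eq_app]

theorem regAt_smooth_iff {X V V' : Scheme.{u}} (i : X ⟶ V) [IsImmersion i] (j : X ⟶ V') [IsImmersion j]
    (p : V' ⟶ V) [Smooth p] (h : j ≫ p = i) (z : X) :
    RegImm.IsRegularImmersionAt .koszul i z ↔ RegImm.IsRegularImmersionAt .koszul j z := by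
  subst h
  obtain ⟨U, hzU, -, hclU⟩ := H17.RegDescent.exists_affine_closed (j ≫ p) z ⊤ trivial
  obtain ⟨W, hzW, hWU, hclW⟩ := H17.RegDescent.exists_affine_closed j z (p ⁻¹ᵁ U.1) hzU
  obtain ⟨O, hO, hOW⟩ := (j ≫ p).isEmbedding.isInducing.isOpen_iff.1 (j ⁻¹ᵁ W.1).isOpen
  have hzO : (j ≫ p) z ∈ O := hOW.ge hzW
  obtain ⟨a, haO, hza⟩ := U.2.exists_basicOpen_le (V := ⟨O, hO⟩) ⟨(j ≫ p) z, hzO⟩ hzU
  let D : V.affineOpens := V.affineBasicOpen a
  let W₄ : V'.affineOpens := V'.affineBasicOpen (p.appLE U.1 W.1 hWU a)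
  have hW₄ : W₄.1 = W.1 ⊓ p ⁻¹ᵁ D.1 := Scheme.basicOpen_appLE p W.1 U.1 hWU a
  have hpre : j ⁻¹ᵁ W₄.1 = (j ≫ p) ⁻¹ᵁ D.1 := by
    rw [hW₄]
    ext x
    exact ⟨fun hx => hx.2, fun hx => ⟨hOW.le (show (j ≫ p) x ∈ O from haO hx), hx⟩⟩
  have hjW : j z ∈ W₄.1 := by
    rw [hW₄]
    exact ⟨hzW, hza⟩
  have hclD := (ker_app_of_le (j ≫ p) U D (V.basicOpen_le a) hclU).1
  have hclW₄ := (ker_app_of_le j W W₄ (V'.basicOpen_le _) hclW).1
  rw [regAt_iff (j ≫ p) z D hza hclD, regAt_iff j z W₄ hjW hclW₄]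
  let T : X.Opens := (j ≫ p) ⁻¹ᵁ D.1
  have hT : IsAffineOpen T := (H17.app_surjective_of_restrict (j ≫ p) D.2).2
  have hle : W₄.1 ≤ p ⁻¹ᵁ D.1 := by
    rw [hW₄]
    exact inf_le_right
  letI : Algebra Γ(V, D.1) Γ(V', W₄.1) := (p.appLE D.1 W₄.1 hle).hom.toAlgebra
  letI : Algebra Γ(V, D.1) Γ(X, T) := ((j ≫ p).app D.1).hom.toAlgebra
  haveI : Algebra.Smooth Γ(V, D.1) Γ(V', W₄.1) := by
    have hs : (p.appLE D.1 W₄.1 hle).hom.Smooth :=
      HasRingHomProperty.appLE @Smooth p inferInstance D W₄ hle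
    exact hs
  let β : Γ(V', W₄.1) →ₐ[Γ(V, D.1)] Γ(X, T) :=
    { (j.appLE W₄.1 T hpre.ge).hom with
      commutes' := fun x => by
        show (j.appLE W₄.1 T hpre.ge).hom ((p.appLE D.1 W₄.1 hle).hom x) = ((j ≫ p).app D.1).hom x
        rw [← CommRingCat.comp_apply, Scheme.Hom.appLE_comp_appLE, Scheme.Hom.appLE_eq_app] }
  have hα : Function.Surjective (algebraMap Γ(V, D.1) Γ(X, T)) :=
    (H17.app_surjective_of_restrict (j ≫ p) D.2).1
  have hkβ : RingHom.ker β.toRingHom = RingHom.ker (j.app W₄.1).hom :=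
    ker_appLE_of_eq j W₄.1 T hpre.symm
  let P := (W₄.2.primeIdealOf ⟨j z, hjW⟩).asIdeal
  have hP : RingHom.ker β.toRingHom ≤ P := by
    intro x hx
    by_contra hxP
    have hzx : z ∈ X.basicOpen ((j.appLE W₄.1 T hpre.ge).hom x) := by
      rw [Scheme.basicOpen_appLE]
      exact ⟨hza, (mem_basicOpen_iff_notMem W₄ (j z) hjW x).2 hxP⟩
    rw [show (j.appLE W₄.1 T hpre.ge).hom x = 0 from hx, Scheme.basicOpen_zero] at hzx
    exact hzx
  have hunder : P.under Γ(V, D.1) = (D.2.primeIdealOf ⟨(j ≫ p) z, hza⟩).asIdeal :=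
    congrArg PrimeSpectrum.asIdeal
      (IsAffineOpen.comap_primeIdealOf_appLE (f := p) D.1 D.2 W₄.1 W₄.2 hle hjW)
  have key := smooth_iff' β hα P hP
  rw [hunder, hkβ] at key
  exact key

theorem smooth_comp_iff {X V V' : Scheme.{u}} (i : X ⟶ V) [IsImmersion i] (j : X ⟶ V') [IsImmersion j]
    (p : V' ⟶ V) [Smooth p] (h : j ≫ p = i) :
    RegImm.IsRegularImmersion .koszul i ↔ RegImm.IsRegularImmersion .koszul j :=
  ⟨fun hi => ⟨inferInstance, fun z => (regAt_smooth_iff i j p h z).1 (hi.2 z)⟩,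
    fun hj => ⟨inferInstance, fun z => (regAt_smooth_iff i j p h z).2 (hj.2 z)⟩⟩

end Groth.Agent.H8Props.KoszImm
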