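import Groth.Agent.H8Props.KoszImm.LCI
import Groth.Agent.H17.RegDescent.Scheme

/-!
# Faithfully flat descent of Koszul-regular ideals
-/

set_option autoImplicit false
set_option linter.style.haveILetI false

universe u

open CategoryTheory CategoryTheory.Limits AlgebraicGeometry TopologicalSpace
open scoped TensorProduct

namespace Groth.Agent.H8Props.KoszImm

/-- Koszul-regular ideals descend along faithfully flat maps. -/
theorem krAt_of_faithfullyFlat {A B : Type u} [CommRing A] [CommRing B] [Algebra A B]
    [Module.FaithfullyFlat A B] (I : Ideal A) (h : LCI.IsKoszulRegularIdeal (I.map (algebraMap A B)))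
    (P : PrimeSpectrum A) (hP : I ≤ P.asIdeal) : KRAt I P.asIdeal := by
  let a : CommRingCat.of A ⟶ CommRingCat.of (A ⧸ I) := CommRingCat.ofHom (Ideal.Quotient.mk I)
  let b : CommRingCat.of A ⟶ CommRingCat.of B := CommRingCat.ofHom (algebraMap A B)
  let J := I.map (algebraMap A B)
  let a' : CommRingCat.of B ⟶ CommRingCat.of (B ⧸ J) := CommRingCat.ofHom (Ideal.Quotient.mk J)
  let b' : CommRingCat.of (A ⧸ I) ⟶ CommRingCat.of (B ⧸ J) :=
    CommRingCat.ofHom (Ideal.quotientMap J (algebraMap A B) Ideal.le_comap_map)
  haveI : IsClosedImmersion (Spec.map a) := IsClosedImmersion.spec_of_surjective _ Ideal.Quotient.mk_surjective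
  haveI : IsClosedImmersion (Spec.map a') := IsClosedImmersion.spec_of_surjective _ Ideal.Quotient.mk_surjective
  haveI : Flat (Spec.map b) := by
    rw [HasRingHomProperty.Spec_iff (P := @Flat)]
    exact RingHom.flat_algebraMap_iff.2 inferInstance
  haveI : Surjective (Spec.map b) := ⟨PrimeSpectrum.comap_surjective_of_faithfullyFlat (A := A) (B := B)⟩
  have hsq : IsPullback (Spec.map b') (Spec.map a') (Spec.map a) (Spec.map b) := by
    refine isPullback_SpecMap_of_isPushout _ _ _ _ ?_
    refine IsPushout.of_isColimit' ⟨by ext x; rfl⟩ (PushoutCocone.IsColimit.mk _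
      (fun s => CommRingCat.ofHom (Ideal.Quotient.lift J s.inr.hom ?_)) ?_ ?_ ?_)
    · intro y hy
      have : J ≤ RingHom.ker s.inr.hom := Ideal.map_le_iff_le_comap.2 fun x hx => by
        have e := congr($(s.condition).hom x)
        simp only [a, b, CommRingCat.hom_comp, RingHom.comp_apply, CommRingCat.hom_ofHom] at e
        rw [Ideal.mem_comap, RingHom.mem_ker, ← e, Ideal.Quotient.eq_zero_iff_mem.2 hx, map_zero]
      exact this hy
    · intro s
      ext x
      exact congr($(s.condition).hom x).symm
    · intro s
      ext x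
      simp [a']
    · intro s m h1 h2
      ext x
      exact congr($(h2).hom x)
  have hk : RingHom.ker a'.hom = J := Ideal.mk_ker
  have hi' : RegImm.IsRegularImmersion .koszul (Spec.map a') := ⟨inferInstance, fun z =>
    (regAt_Spec_iff a' Ideal.Quotient.mk_surjective z).2 (by
      rw [hk]
      exact (isKoszulRegularIdeal_iff J).1 h (PrimeSpectrum.comap a'.hom z)
        (hk.ge.trans (Ideal.ker_le_comap _)))⟩
  have hi := H17.RegDescent.descend (Spec.map a) (Spec.map b) (Spec.map a') (Spec.map b') hsq .koszul
    (by decide) hi'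
  obtain ⟨z, hz⟩ : P ∈ Set.range (PrimeSpectrum.comap (Ideal.Quotient.mk I)) := by
    rw [_root_.range_comap_of_surjective _ _ Ideal.Quotient.mk_surjective, Ideal.mk_ker]
    exact hP
  have := (regAt_Spec_iff a Ideal.Quotient.mk_surjective z).1 (hi.2 z)
  rw [show RingHom.ker a.hom = I from Ideal.mk_ker] at this
  rw [← hz]
  exact this

end Groth.Agent.H8Props.KoszImm
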