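import Groth.Agent.H8Props.KoszImm.Syntomic
import Groth.Agent.H29Slice.TransBC
import Groth.Agent.H29Slice.TransReg
import Groth.Agent.H29Slice.FibreReg
import Groth.Agent.H29Slice.Fibre

/-!
# Koszul-regular ideals with flat quotient: the fibrewise criterion and base change
-/

set_option autoImplicit false
set_option linter.style.haveILetI false

universe u

open scoped TensorProduct
open RingTheory.Sequence

namespace Groth.Agent.H8Props.KoszImm

variable {R P : Type u} [CommRing R] [CommRing P] [Algebra R P]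

/-- A transversally regular chart at a prime. -/
def TransAt (R : Type u) {P : Type u} [CommRing R] [CommRing P] [Algebra R P] (I Q : Ideal P) : Prop :=
  ∃ b : P, b ∉ Q ∧ ∃ f : List P, ∀ (L : Type u) [CommRing L] [Algebra R L] [Algebra P L]
    [IsScalarTower R P L] [IsLocalization.Away b L],
    RegImm.IsTransRegularSeq R L (f.map (algebraMap P L)) ∧
      I.map (algebraMap P L) = Ideal.ofList (f.map (algebraMap P L))

theorem exists_map_eq_of_mul_mem {I : Ideal P} {f : List P} (hf : ∀ a ∈ f, a ∈ I) {b : P}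
    (hb : ∀ j ∈ I, b * j ∈ Ideal.ofList f) (L : Type u) [CommRing L] [Algebra P L] (hu : IsUnit (algebraMap P L b)) :
    I.map (algebraMap P L) = Ideal.ofList (f.map (algebraMap P L)) := by
  refine le_antisymm (Ideal.map_le_iff_le_comap.2 fun j hj => ?_) ?_
  · rw [Ideal.mem_comap, ← Ideal.map_ofList, ← Ideal.unit_mul_mem_iff_mem _ hu, ← map_mul]
    exact Ideal.mem_map_of_mem _ (hb j hj)
  · rw [← Ideal.map_ofList]
    exact Ideal.map_mono (Ideal.span_le.2 hf)

/-- A transversally regular chart gives Koszul regularity after every base change. -/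
theorem krAt_of_transAt {I Q : Ideal P} (h : TransAt R I Q) {R' P' : Type u} [CommRing R'] [CommRing P']
    [Algebra R R'] [Algebra R' P'] [Algebra P P'] [Algebra R P'] [IsScalarTower R R' P'] [IsScalarTower R P P']
    [Algebra.IsPushout R R' P P'] (Q' : Ideal P') (hQ : Q'.comap (algebraMap P P') = Q) :
    KRAt (I.map (algebraMap P P')) Q' := by
  obtain ⟨b, hb, f, hf⟩ := h
  let T := Localization.Away b
  let b' := algebraMap P P' b
  let T' := Localization.Away b'
  letI : Algebra T T' := (IsLocalization.Away.map T T' (algebraMap P P') b).toAlgebra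
  haveI : IsScalarTower P T T' := IsScalarTower.of_algebraMap_eq fun a => by
    show _ = IsLocalization.Away.map T T' (algebraMap P P') b (algebraMap P T a)
    rw [IsScalarTower.algebraMap_apply P P' T']
    exact (IsLocalization.map_eq _ a).symm
  haveI : IsScalarTower R T T' := IsScalarTower.to₁₃₄ R P T T'
  haveI : IsLocalization (Algebra.algebraMapSubmonoid P' (Submonoid.powers b)) T' := by
    rw [Algebra.algebraMapSubmonoid, Submonoid.map_powers]
    infer_instance
  haveI : Algebra.IsPushout P P' T T' := Algebra.isPushout_of_isLocalization (Submonoid.powers b) T P' T'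
  haveI : Algebra.IsPushout R P R' P' := Algebra.IsPushout.symm inferInstance
  haveI : Algebra.IsPushout R R' T T' := by
    rw [Algebra.IsPushout.comm]
    exact (Algebra.IsPushout.comp_iff (R := R) (S := P) (T := T) (R' := R') (S' := P') (T' := T')).2
      (Algebra.IsPushout.symm inferInstance)
  obtain ⟨htr, hI⟩ := hf T
  refine KRAt.of_away (g := b') (fun hm => hb (hQ ▸ hm)) T'
    (H29Slice.isKoszulRegular_of_isWeaklyRegular (H29Slice.isWeaklyRegular_pushout R T R' T' htr)) ?_
  rw [Ideal.map_map, ← IsScalarTower.algebraMap_eq P P' T', IsScalarTower.algebraMap_eq P T T', ← Ideal.map_map,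
    hI, Ideal.map_ofList]

/-- Koszul-regular ideals with flat quotient have transversally regular charts. -/
theorem transAt_of_krAt [Algebra.FinitePresentation R P] [Module.Flat R P] {I Q : Ideal P} [Q.IsPrime]
    [Module.Flat R (P ⧸ I)] (hIQ : I ≤ Q) (h : KRAt I Q) : TransAt R I Q := by
  obtain ⟨g, hg, f, hfI, hreg, hIf⟩ := h.exists_chart
  let T := Localization.Away g
  haveI : Module.Flat P T := IsLocalization.flat T (Submonoid.powers g)
  haveI : Module.Flat R T := Module.Flat.trans R P T
  haveI : Algebra.FinitePresentation P T := IsLocalization.Away.finitePresentation g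
  haveI : Algebra.FinitePresentation R T := Algebra.FinitePresentation.trans R P T
  let J := I.map (algebraMap P T)
  haveI : Module.Flat R (T ⧸ J) := by
    haveI : Module.Flat (P ⧸ I) (T ⧸ J) := IsLocalization.flat _
      (Algebra.algebraMapSubmonoid (P ⧸ I) (Submonoid.powers g))
    haveI : IsScalarTower R (P ⧸ I) (T ⧸ J) :=
      IsScalarTower.of_algebraMap_eq (R := R) (S := P ⧸ I) (A := T ⧸ J) fun a =>
        congrArg (Ideal.Quotient.mk J) (IsScalarTower.algebraMap_apply R P T a)
    exact Module.Flat.trans R (P ⧸ I) _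
  have hdisj := (Ideal.disjoint_powers_iff_notMem g (‹Q.IsPrime›.isRadical)).mpr hg
  let q : PrimeSpectrum T := ⟨Q.map (algebraMap P T),
    IsLocalization.isPrime_of_isPrime_disjoint (Submonoid.powers g) T Q ‹_› hdisj⟩
  have hqc : q.asIdeal.comap (algebraMap P T) = Q :=
    IsLocalization.under_map_of_isPrime_disjoint (Submonoid.powers g) T ‹Q.IsPrime› hdisj
  let fT := (f.map (algebraMap P T)).get
  have hspan : Ideal.span (Set.range fT) = J := by
    rw [Set.range_list_get]
    exact hIf.symm
  obtain ⟨b, hb, htr⟩ := H29Slice.exists_transReg (A := R) T fT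
    (H17.RegDescent.quasi_of_seq (k := RegImm.Kind.koszul) (by decide) hreg)
    (by rw [hspan]; infer_instance) q fun i => by
      obtain ⟨a, ha, he⟩ := List.mem_map.1 (List.get_mem (f.map (algebraMap P T)) i)
      show fT i ∈ Q.map (algebraMap P T)
      rw [show fT i = algebraMap P T a from he.symm]
      exact Ideal.mem_map_of_mem _ (hIQ (hfI a ha))
  obtain ⟨n, b₂, hb₂⟩ := IsLocalization.Away.surj g b
  have hu : IsUnit (algebraMap P T g) := IsLocalization.Away.algebraMap_isUnit g
  have hb₂Q : b₂ ∉ Q := fun h => hb (by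
    have h1 : algebraMap P T b₂ ∈ q.asIdeal := Ideal.mem_map_of_mem _ h
    rw [← hb₂] at h1
    exact (Ideal.mul_unit_mem_iff_mem _ (hu.pow n)).mp h1)
  refine ⟨g * b₂, fun h => (‹Q.IsPrime›.mem_or_mem h).elim hg hb₂Q, f, fun L _ _ _ _ _ => ?_⟩
  have hug : IsUnit (algebraMap P L g) :=
    isUnit_of_dvd_unit (map_dvd _ (dvd_mul_right g b₂)) (IsLocalization.Away.algebraMap_isUnit (g * b₂))
  letI : Algebra T L := (IsLocalization.Away.lift g hug).toAlgebra
  haveI : IsScalarTower P T L :=
    IsScalarTower.of_algebraMap_eq fun a => (IsLocalization.Away.lift_eq g hug a).symm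
  haveI : IsScalarTower R T L := IsScalarTower.to₁₃₄ R P T L
  haveI : IsLocalization.Away b L := by
    haveI : IsLocalization.Away (algebraMap P T b₂) L := by
      let L₂ := Localization.Away (algebraMap P T b₂)
      haveI : IsLocalization.Away (g * b₂) L₂ := IsLocalization.Away.mul' T L₂ g b₂
      let e : L₂ ≃ₐ[P] L := IsLocalization.algEquiv (Submonoid.powers (g * b₂)) L₂ L
      refine IsLocalization.isLocalization_of_algEquiv (Submonoid.powers (algebraMap P T b₂))
        (AlgEquiv.ofRingEquiv (f := e.toRingEquiv) fun t => ?_)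
      refine RingHom.congr_fun (IsLocalization.ringHom_ext (Submonoid.powers g) (S := T)
        (j := (e : L₂ →+* L).comp (algebraMap T L₂)) (k := algebraMap T L) (RingHom.ext fun a => ?_)) t
      simp only [RingHom.comp_apply, ← IsScalarTower.algebraMap_apply P T L₂, ← IsScalarTower.algebraMap_apply P T L]
      exact e.commutes a
    have hassoc : Associated (algebraMap P T b₂) b := by
      rw [← hb₂]
      exact associated_mul_unit_left b _ (hu.pow n)
    exact IsLocalization.Away.of_associated hassoc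
  have hlist : (List.ofFn fT).map (algebraMap T L) = f.map (algebraMap P L) := by
    rw [List.ofFn_get, List.map_map]
    exact List.map_congr_left fun a _ => (IsScalarTower.algebraMap_apply P T L a).symm
  refine ⟨hlist ▸ htr L, ?_⟩
  rw [IsScalarTower.algebraMap_eq P T L, ← Ideal.map_map, hIf, Ideal.map_ofList, List.map_map]
  rfl

/-- Descent of Koszul regularity from a field-valued fibre. -/
theorem krAt_of_fibre [Algebra.FinitePresentation R P] [Module.Flat R P] {I : Ideal P} (hI : I.FG)
    [Module.Flat R (P ⧸ I)] {K P' : Type u} [Field K] [CommRing P']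
    [Algebra R K] [Algebra K P'] [Algebra P P'] [Algebra R P'] [IsScalarTower R K P'] [IsScalarTower R P P']
    [Algebra.IsPushout R K P P'] (Q' : Ideal P') [Q'.IsPrime] (hIQ : I.map (algebraMap P P') ≤ Q')
    (h : KRAt (I.map (algebraMap P P')) Q') : KRAt I (Q'.comap (algebraMap P P')) := by
  classical
  let Q := Q'.comap (algebraMap P P')
  let p : Ideal R := Q.comap (algebraMap R P)
  let κ := p.ResidueField
  let P₀ := p.Fiber P
  have hker : ∀ r, r ∈ p ↔ algebraMap R K r = 0 := fun r => by
    show algebraMap P P' (algebraMap R P r) ∈ Q' ↔ _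
    rw [← IsScalarTower.algebraMap_apply, IsScalarTower.algebraMap_apply R K P']
    refine ⟨fun hr => ?_, fun hr => by rw [hr, map_zero]; exact zero_mem _⟩
    by_contra hne
    exact ‹Q'.IsPrime›.ne_top (Ideal.eq_top_of_isUnit_mem _ hr ((IsUnit.mk0 _ hne).map _))
  let σ : κ →ₐ[R] K := Ideal.ResidueField.liftₐ p (Algebra.ofId R K) (fun r hr => (hker r).1 hr)
    (fun r hr => isUnit_iff_ne_zero.2 fun h0 => hr ((hker r).2 h0))
  letI : Algebra κ K := σ.toRingHom.toAlgebra
  haveI : IsScalarTower R κ K := IsScalarTower.of_algebraMap_eq fun r => (σ.commutes r).symm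
  letI : Algebra κ P' := ((algebraMap K P').comp σ.toRingHom).toAlgebra
  haveI : IsScalarTower κ K P' := IsScalarTower.of_algebraMap_eq fun _ => rfl
  haveI : IsScalarTower R κ P' := IsScalarTower.to₁₂₄ R κ K P'
  let θ : P₀ →ₐ[κ] P' :=
    Algebra.TensorProduct.lift (Algebra.ofId κ P') (IsScalarTower.toAlgHom R P P') fun _ _ => Commute.all _ _
  letI : Algebra P₀ P' := θ.toRingHom.toAlgebra
  letI : Algebra P P₀ := (Algebra.TensorProduct.includeRight (R := R) (A := κ) (B := P)).toRingHom.toAlgebra
  haveI : IsScalarTower R P P₀ := IsScalarTower.of_algebraMap_eq fun r =>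
    ((Algebra.TensorProduct.includeRight (R := R) (A := κ) (B := P)).commutes r).symm
  haveI : IsScalarTower P P₀ P' := IsScalarTower.of_algebraMap_eq fun x => by
    show _ = Algebra.TensorProduct.lift (Algebra.ofId κ P') (IsScalarTower.toAlgHom R P P') _
      ((1 : κ) ⊗ₜ[R] x)
    simp
  haveI : IsScalarTower κ P₀ P' := IsScalarTower.of_algebraMap_eq fun k => (θ.commutes k).symm
  haveI : IsScalarTower R P₀ P' := IsScalarTower.of_algebraMap_eq (R := R) (S := P₀) (A := P') fun r => by
    rw [IsScalarTower.algebraMap_apply R P P₀, ← IsScalarTower.algebraMap_apply P P₀ P',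
      ← IsScalarTower.algebraMap_apply R P P']
  haveI : Algebra.IsPushout R κ P P₀ := TensorProduct.isPushout
  haveI : Algebra.IsPushout κ K P₀ P' :=
    (Algebra.IsPushout.comp_iff (R := R) (S := κ) (T := K) (R' := P) (S' := P₀) (T' := P')).1 inferInstance
  haveI : Algebra.IsPushout κ P₀ K P' := Algebra.IsPushout.symm inferInstance
  haveI : Module.Flat P₀ P' := Module.Flat.isBaseChange κ P₀ K P' Algebra.IsPushout.out
  let Q₀ : Ideal P₀ := Q'.comap (algebraMap P₀ P')
  have hQ₀ : Q₀.comap (algebraMap P P₀) = Q := by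
    rw [Ideal.comap_comap, ← IsScalarTower.algebraMap_eq]
  let L₀ := Localization.AtPrime Q₀
  let L' := Localization.AtPrime Q'
  let ψ : L₀ →+* L' := Localization.localRingHom Q₀ Q' (algebraMap P₀ P') rfl
  haveI : IsLocalHom ψ := Localization.isLocalHom_localRingHom Q₀ Q' (algebraMap P₀ P') rfl
  have hψ := RingHom.Flat.localRingHom (RingHom.flat_algebraMap_iff.2 inferInstance) Q' Q₀ rfl
  let φ : P →+* L₀ := (algebraMap P₀ L₀).comp (algebraMap P P₀)
  let φ' : P →+* L' := (algebraMap P' L').comp (algebraMap P P')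
  have hφ : ψ.comp φ = φ' := RingHom.ext fun a => by
    show ψ (algebraMap P₀ L₀ (algebraMap P P₀ a)) = algebraMap P' L' (algebraMap P P' a)
    rw [Localization.localRingHom_to_map, IsScalarTower.algebraMap_apply P P₀ P',
      ← IsScalarTower.algebraMap_apply P₀ P' L']
  obtain ⟨G, hG⟩ := hI
  obtain ⟨f, hfG, hfspan, hirr⟩ := H17.RegDescent.exists_min_sublist (S := L₀) φ G.toList
  have hGI : Ideal.ofList G.toList = I := by
    rw [← hG]
    exact congrArg Ideal.span (Set.ext fun x => Finset.mem_toList)
  have hfI : ∀ a ∈ f, a ∈ I := fun a ha => hGI ▸ hfG (Ideal.subset_span ha)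
  have hIφ : I.map φ = Ideal.ofList (f.map φ) := by rw [← hGI, Ideal.map_ofList, hfspan]
  -- regularity of the minimal generators
  have hk : RegImm.Kind.koszul ≠ RegImm.Kind.regular := by decide
  have hquasi : RegImm.Kind.quasi.Seq L' (f.map φ') := by
    obtain ⟨g, hg, h', hh'I, hreg, hI'⟩ := h.exists_chart
    let G' := Localization.Away g
    have hu : IsUnit (algebraMap P' L' g) := IsLocalization.map_units L' (⟨g, hg⟩ : Q'.primeCompl)
    letI : Algebra G' L' := (IsLocalization.Away.lift g hu).toAlgebra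
    haveI : IsScalarTower P' G' L' :=
      IsScalarTower.of_algebraMap_eq fun a => (IsLocalization.Away.lift_eq g hu a).symm
    haveI : Module.Flat G' L' := (Module.flat_iff_of_isLocalization G' (Submonoid.powers g) L').2 inferInstance
    have h1 := H17.KoszulBC.isKoszulRegularSeq_map L' hreg
    rw [List.map_map, ← RingHom.coe_comp, ← IsScalarTower.algebraMap_eq] at h1
    have heq : Ideal.ofList (h'.map (algebraMap P' L')) = Ideal.ofList (f.map φ') := by
      rw [show Ideal.ofList (f.map φ') = I.map φ' by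
        rw [← hφ, ← Ideal.map_map, hIφ, Ideal.map_ofList, List.map_map, RingHom.coe_comp]]
      have := congrArg (Ideal.map (algebraMap G' L')) hI'
      rw [Ideal.map_map, ← IsScalarTower.algebraMap_eq, Ideal.map_ofList, List.map_map, ← RingHom.coe_comp,
        ← IsScalarTower.algebraMap_eq] at this
      rw [← this, Ideal.map_map]
    have hne : Ideal.ofList (h'.map (algebraMap P' L')) ≠ ⊤ := fun htop =>
      (IsLocalRing.maximalIdeal.isMaximal L').ne_top (top_le_iff.1 (htop ▸ Ideal.span_le.2 (by
        intro y hy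
        obtain ⟨a, ha, rfl⟩ := List.mem_map.1 hy
        exact (IsLocalization.AtPrime.to_map_mem_maximal_iff L' Q' a).2 (hIQ (hh'I a ha)))))
    have hirr' : H17.RegDescent.Irred (f.map φ') := by
      rw [← hφ, RingHom.coe_comp, ← List.map_map]
      exact H17.RegDescent.irred_map ψ hψ hirr
    have hq : RegImm.Kind.quasi.Seq L' (h'.map (algebraMap P' L')) := H17.RegDescent.quasi_of_seq hk h1
    exact H17.RegDescent.seq_change (by decide) hq hirr' heq
      (le_antisymm (H17.RegDescent.length_le_of_irred hirr' heq)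
        (H17.RegDescent.length_le_of_irred (H17.RegDescent.irred_of_quasi hq hne) heq.symm))
  have hreg₀ : IsWeaklyRegular L₀ (f.map φ) := by
    letI := ψ.toAlgebra
    have hq₀ : RegImm.Kind.quasi.Seq L₀ (f.map φ) := by
      refine H17.RegDescent.seq_descend (by decide) _ fun m hm => ⟨L', inferInstance, inferInstance, hψ, ?_, ?_⟩
      · rw [IsLocalRing.eq_maximalIdeal hm]
        exact fun htop => (IsLocalRing.maximalIdeal.isMaximal L').ne_top
          (top_le_iff.1 (htop ▸ ((IsLocalRing.local_hom_TFAE ψ).out 0 2).1 ‹IsLocalHom ψ›))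
      · rw [List.map_map]
        show RegImm.Kind.quasi.Seq L' (f.map (ψ.comp φ))
        rw [hφ]
        exact hquasi
    haveI : IsNoetherianRing P₀ := Algebra.FiniteType.isNoetherianRing κ P₀
    rw [← List.ofFn_get (f.map φ)]
    refine H29Slice.isWeaklyRegular_of_isQuasiRegular L₀ _ (fun i => ?_) hq₀
    rw [IsLocalRing.jacobson_eq_maximalIdeal _ bot_ne_top]
    obtain ⟨a, ha, he⟩ := List.mem_map.1 (List.get_mem (f.map φ) i)
    rw [← he]
    refine (IsLocalization.AtPrime.to_map_mem_maximal_iff L₀ Q₀ _).2 ?_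
    show algebraMap P₀ P' (algebraMap P P₀ a) ∈ Q'
    rw [← IsScalarTower.algebraMap_apply]
    exact hIQ (Ideal.mem_map_of_mem _ (hfI a ha))
  -- from the fibre to a neighbourhood
  let pP := p.map (algebraMap R P)
  have hsat : ∀ (J : Ideal P) (x : P), φ x ∈ J.map φ → ∃ t ∉ Q, t * x ∈ J ⊔ pP := by
    intro J x hx
    rw [← Ideal.map_map] at hx
    obtain ⟨u, hu, hux⟩ := (IsLocalization.algebraMap_mem_map_algebraMap_iff Q₀.primeCompl L₀ _ _).1 hx
    let LQ := Localization.AtPrime Q
    let T := LQ ⧸ pP.map (algebraMap P LQ)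
    let τ : κ →ₐ[R] T := Ideal.ResidueField.liftₐ p (Algebra.ofId R T) (fun r hr => by
        show Ideal.Quotient.mk _ (algebraMap R LQ r) = 0
        rw [Ideal.Quotient.eq_zero_iff_mem, IsScalarTower.algebraMap_apply R P LQ]
        exact Ideal.mem_map_of_mem _ (Ideal.mem_map_of_mem _ hr))
      (fun r hr => by
        show IsUnit (Ideal.Quotient.mk _ (algebraMap R LQ r))
        rw [IsScalarTower.algebraMap_apply R P LQ]
        exact (IsLocalization.map_units LQ (⟨algebraMap R P r, hr⟩ : Q.primeCompl)).map _)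
    let γ : P₀ →ₐ[R] T := Algebra.TensorProduct.lift τ (IsScalarTower.toAlgHom R P T) fun _ _ => Commute.all _ _
    have hγ : ∀ a, γ (algebraMap P P₀ a) = algebraMap P T a := fun a => by
      show γ ((1 : κ) ⊗ₜ[R] a) = _
      refine (Algebra.TensorProduct.lift_tmul _ _ _ _ _).trans ?_
      rw [map_one, one_mul]
      rfl
    obtain ⟨r, hr, s, hs⟩ := Ideal.Fiber.exists_smul_eq_one_tmul p u
    have hsQ : s ∉ Q := fun hsQ => hu (by
      have h1 : algebraMap P₀ P' (r • u) ∈ Q' := by
        rw [hs]
        show algebraMap P₀ P' (algebraMap P P₀ s) ∈ Q'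
        rw [← IsScalarTower.algebraMap_apply]
        exact hsQ
      rw [Algebra.smul_def, map_mul] at h1
      refine (‹Q'.IsPrime›.mem_or_mem h1).resolve_left fun h2 => hr ?_
      rw [hker]
      by_contra hne
      rw [IsScalarTower.algebraMap_apply R κ P₀, ← IsScalarTower.algebraMap_apply κ P₀ P',
        IsScalarTower.algebraMap_apply κ K P', ← IsScalarTower.algebraMap_apply R κ K] at h2
      exact ‹Q'.IsPrime›.ne_top (Ideal.eq_top_of_isUnit_mem _ h2 ((IsUnit.mk0 _ hne).map _)))
    have hmem : algebraMap P P₀ (s * x) ∈ J.map (algebraMap P P₀) := by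
      rw [map_mul, show algebraMap P P₀ s = r • u from hs.symm, smul_mul_assoc, Algebra.smul_def]
      exact Ideal.mul_mem_left _ _ hux
    have hT : algebraMap P T (s * x) ∈ J.map (algebraMap P T) := by
      have hcomp : γ.toRingHom.comp (algebraMap P P₀) = algebraMap P T := RingHom.ext hγ
      exact ((Ideal.map_map _ _).trans (congrArg (fun r => Ideal.map r J) hcomp)).le
        ((hγ (s * x)) ▸ Ideal.mem_map_of_mem γ.toRingHom hmem)
    have hLQ : algebraMap P LQ (s * x) ∈ (J ⊔ pP).map (algebraMap P LQ) := by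
      rw [Ideal.map_sup]
      have hm : (algebraMap P T) = (Ideal.Quotient.mk (pP.map (algebraMap P LQ))).comp (algebraMap P LQ) := rfl
      rw [hm, ← Ideal.map_map, RingHom.comp_apply, ← Ideal.mem_comap,
        Ideal.comap_map_of_surjective' _ Ideal.Quotient.mk_surjective, Ideal.mk_ker] at hT
      exact hT
    obtain ⟨t, ht, htx⟩ := (IsLocalization.algebraMap_mem_map_algebraMap_iff Q.primeCompl LQ _ _).1 hLQ
    exact ⟨t * s, fun h' => (inferInstance : Q.IsPrime).mem_or_mem h' |>.elim ht hsQ, by rw [mul_assoc]; exact htx⟩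
  have hregfib : H29Slice.RegOnFibre (A := R) f.get Q := by
    intro j c t ht hmem
    rw [RingTheory.Sequence.isWeaklyRegular_iff] at hreg₀
    have hj := hreg₀ j (by simp)
    rw [List.getElem_map, show (Ideal.ofList ((f.map φ).take j) • (⊤ : Submodule L₀ L₀)) = _ from Ideal.mul_top _,
      isSMulRegular_quotient_iff_mem_of_smul_mem] at hj
    have htake : (Ideal.span (f.get '' Set.Iio j) ⊔ pP).map φ = Ideal.ofList ((f.map φ).take j) := by
      rw [Ideal.map_sup, sup_eq_left.2]
      · rw [Ideal.map_span, ← List.map_take, Ideal.ofList]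
        congr 1
        ext y
        simp only [Set.mem_image, Set.mem_Iio, List.mem_map, List.mem_take_iff_getElem, Set.mem_ofPred_eq]
        constructor
        · rintro ⟨_, ⟨i, hi, rfl⟩, rfl⟩
          exact ⟨_, ⟨i, lt_min hi i.isLt, rfl⟩, rfl⟩
        · rintro ⟨_, ⟨i, hi, rfl⟩, rfl⟩
          exact ⟨_, ⟨⟨i, (lt_min_iff.mp hi).2⟩, (lt_min_iff.mp hi).1, rfl⟩, rfl⟩
      · refine le_trans (Ideal.map_le_iff_le_comap.2 (Ideal.map_le_iff_le_comap.2 fun r hr => ?_)) bot_le
        show algebraMap P₀ L₀ (algebraMap P P₀ (algebraMap R P r)) ∈ (⊥ : Ideal L₀)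
        rw [← IsScalarTower.algebraMap_apply R P P₀, IsScalarTower.algebraMap_apply R κ P₀,
          Ideal.algebraMap_residueField_eq_zero.mpr hr, map_zero, map_zero]
        exact zero_mem _
    have hut : IsUnit (φ t) := IsLocalization.map_units L₀ (⟨algebraMap P P₀ t, fun h' => ht (hQ₀ ▸ h')⟩ : Q₀.primeCompl)
    have h1 := Ideal.mem_map_of_mem φ hmem
    rw [map_mul, Ideal.unit_mul_mem_iff_mem _ hut, map_mul, htake] at h1
    have h2 := hj _ h1
    rw [← htake] at h2
    obtain ⟨t', ht', h3⟩ := hsat _ c h2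
    exact ⟨t', ht', by rwa [sup_assoc, sup_idem] at h3⟩
  have hQprime : Q.IsPrime := inferInstance
  have hfQ : ∀ i, f.get i ∈ Q := fun i => hIQ (Ideal.mem_map_of_mem _ (hfI _ (List.get_mem f i)))
  obtain ⟨b₁, hb₁, htr⟩ := H29Slice.exists_transReg_of_fibre (A := R) P f.get ⟨Q, hQprime⟩ hfQ hregfib
  obtain ⟨b₂, hb₂, hmul⟩ := H29Slice.exists_mul_mem_of_fibre (A := R) I (Ideal.ofList f)
    ⟨G, hG⟩ (Ideal.span_le.2 hfI) ⟨Q, hQprime⟩ fun j hj => hsat _ j (by
      rw [Ideal.map_ofList, ← hIφ]
      exact Ideal.mem_map_of_mem _ hj)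
  let L := Localization.Away (b₁ * b₂)
  have hu₁ : IsUnit (algebraMap P L b₁) :=
    isUnit_of_dvd_unit (map_dvd _ (dvd_mul_right b₁ b₂)) (IsLocalization.Away.algebraMap_isUnit (b₁ * b₂))
  let T := Localization.Away b₁
  letI : Algebra T L := (IsLocalization.Away.lift b₁ hu₁).toAlgebra
  haveI : IsScalarTower P T L :=
    IsScalarTower.of_algebraMap_eq fun a => (IsLocalization.Away.lift_eq b₁ hu₁ a).symm
  haveI : Module.Flat P L := IsLocalization.flat L (Submonoid.powers (b₁ * b₂))
  haveI : Module.Flat T L := (Module.flat_iff_of_isLocalization T (Submonoid.powers b₁) L).2 inferInstance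
  refine KRAt.of_away (g := b₁ * b₂) (fun h' => (hQprime.mem_or_mem h').elim hb₁ hb₂) L
    (l := f.map (algebraMap P L)) ?_ ?_
  · have h1 := H17.KoszulBC.isKoszulRegularSeq_map L (H29Slice.isKoszulRegular_of_isWeaklyRegular (htr T).1)
    rw [List.ofFn_get, List.map_map, ← RingHom.coe_comp, ← IsScalarTower.algebraMap_eq] at h1
    exact h1
  · exact exists_map_eq_of_mul_mem hfI hmul L
      (isUnit_of_dvd_unit (map_dvd _ (dvd_mul_left b₂ b₁)) (IsLocalization.Away.algebraMap_isUnit (b₁ * b₂)))

end Groth.Agent.H8Props.KoszImm
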