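import Groth.Agent.H17.RegDescent.Scheme
import Groth.Agent.H17.KoszCancel.Scheme
import Mathlib

/-!
# Koszul-regular ideals near a prime, and flat changes of the ambient ring

`KRAt I P`: near the prime `P` the ideal `I` is generated by a Koszul-regular sequence. The main result
compares `KRAt I p` with `KRAt J P` for `A → Q`, a Koszul-regular list `F` of `Q` with `Q/(F)` flat and
finitely presented over `A`, and `J = IQ + (F)` near `P`.
-/

set_option autoImplicit false
set_option linter.style.haveILetI false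

universe u

open Groth.Agent.H17.RegDescent

namespace Groth.Agent.H8Props.KoszImm

/-- Near `P` the ideal `I` is generated by a Koszul-regular sequence. -/
def KRAt {A : Type u} [CommRing A] (I P : Ideal A) : Prop :=
  ∃ g : A, g ∉ P ∧ ∃ l : List (Localization.Away g),
    LCI.IsKoszulRegularSeq (Localization.Away g) l ∧
      I.map (algebraMap A (Localization.Away g)) = Ideal.ofList l

theorem isKoszulRegularIdeal_iff {A : Type u} [CommRing A] (I : Ideal A) :
    LCI.IsKoszulRegularIdeal I ↔ ∀ P : PrimeSpectrum A, I ≤ P.asIdeal → KRAt I P.asIdeal := Iff.rfl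

/-- Koszul-regularity is invariant under isomorphisms of rings. -/
theorem reg_of_equiv {A B : Type u} [CommRing A] [CommRing B] (e : A ≃+* B) {l : List A}
    (h : LCI.IsKoszulRegularSeq A l) : LCI.IsKoszulRegularSeq B (l.map e) := by
  letI := e.toRingHom.toAlgebra
  haveI : Module.Flat A B := RingHom.Flat.of_bijective e.bijective
  exact H17.KoszulBC.isKoszulRegularSeq_map B h

/-- A list no longer than a Koszul-regular one generating the same ideal is Koszul-regular. -/
theorem reg_transfer {A : Type u} [CommRing A] {h f : List A} (hh : LCI.IsKoszulRegularSeq A h)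
    (heq : Ideal.ofList h = Ideal.ofList f) (hlen : f.length ≤ h.length) :
    LCI.IsKoszulRegularSeq A f := by
  have hk : RegImm.Kind.koszul ≠ RegImm.Kind.regular := by decide
  refine seq_descend (k := RegImm.Kind.koszul) hk f fun m hm => ?_
  let L := Localization.AtPrime m
  refine ⟨L, inferInstance, inferInstance, inferInstance, ?_, ?_⟩
  · rw [Localization.AtPrime.map_eq_maximalIdeal]
    exact (IsLocalRing.maximalIdeal.isMaximal L).ne_top
  by_cases htop : Ideal.ofList (f.map (algebraMap A L)) = ⊤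
  · exact seq_of_eq_top hk htop
  have hseq : RegImm.Kind.koszul.Seq L (h.map (algebraMap A L)) :=
    H17.KoszulBC.isKoszulRegularSeq_map L hh
  have he : Ideal.ofList (h.map (algebraMap A L)) = Ideal.ofList (f.map (algebraMap A L)) := by
    rw [← Ideal.map_ofList, ← Ideal.map_ofList, heq]
  have hirr := irred_of_quasi (quasi_of_seq hk hseq) (he ▸ htop)
  have hlen' := length_le_of_irred hirr he.symm
  rw [List.length_map, List.length_map] at hlen'
  refine seq_change hk hseq (irred_of_min fun l hl => ?_) he ?_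
  · have := length_le_of_irred hirr (hl.trans he.symm)
    simp only [List.length_map] at this ⊢
    omega
  · simp only [List.length_map]
    omega

section Chart

variable {A : Type u} [CommRing A]

theorem mem_map_away {g : A} {T : Type u} [CommRing T] [Algebra A T] [IsLocalization.Away g T]
    {I : Ideal A} {a : A} (h : algebraMap A T a ∈ I.map (algebraMap A T)) :
    ∃ n : ℕ, g ^ n * a ∈ I := by
  obtain ⟨_, ⟨n, rfl⟩, hn⟩ := (IsLocalization.algebraMap_mem_map_algebraMap_iff (Submonoid.powers g) T I a).1 h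
  exact ⟨n, hn⟩

/-- `KRAt` can be tested in any localization away from an element. -/
theorem KRAt.of_away {I P : Ideal A} {g : A} (hg : g ∉ P) (T : Type u) [CommRing T] [Algebra A T]
    [IsLocalization.Away g T] {l : List T} (hl : LCI.IsKoszulRegularSeq T l)
    (he : I.map (algebraMap A T) = Ideal.ofList l) : KRAt I P := by
  let e : T ≃ₐ[A] Localization.Away g := IsLocalization.algEquiv (Submonoid.powers g) _ _
  refine ⟨g, hg, l.map e.toRingEquiv, reg_of_equiv e.toRingEquiv hl, ?_⟩
  rw [← (e : T →ₐ[A] Localization.Away g).comp_algebraMap, ← Ideal.map_map, he]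
  exact (Ideal.map_ofList _ l).trans rfl

/-- A chart by elements of the ideal. -/
theorem KRAt.exists_chart {I P : Ideal A} (h : KRAt I P) :
    ∃ g : A, g ∉ P ∧ ∃ f : List A, (∀ a ∈ f, a ∈ I) ∧
      LCI.IsKoszulRegularSeq (Localization.Away g) (f.map (algebraMap A (Localization.Away g))) ∧
      I.map (algebraMap A (Localization.Away g)) =
        Ideal.ofList (f.map (algebraMap A (Localization.Away g))) := by
  classical
  obtain ⟨g, hg, l, hl, he⟩ := h
  let T := Localization.Away g
  have key : ∀ x : l.toFinset, ∃ a ∈ I, ∃ v : T, IsUnit v ∧ algebraMap A T a = v * x := by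
    rintro ⟨x, hx⟩
    obtain ⟨n, a, ha⟩ := IsLocalization.Away.surj g x
    have hu : IsUnit (algebraMap A T g) := IsLocalization.Away.algebraMap_isUnit g
    have hmem : algebraMap A T a ∈ I.map (algebraMap A T) := by
      rw [← ha, he]
      exact Ideal.mul_mem_right _ _ (Ideal.subset_span (List.mem_toFinset.1 hx))
    obtain ⟨m, hm⟩ := mem_map_away (g := g) hmem
    refine ⟨g ^ m * a, hm, algebraMap A T g ^ m * algebraMap A T g ^ n, (hu.pow m).mul (hu.pow n), ?_⟩
    rw [map_mul, map_pow, ← ha]
    ring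
  choose c hcI v hv hc using key
  let f : List A := l.attach.map fun x => c ⟨x.1, List.mem_toFinset.2 x.2⟩
  have hfI : ∀ a ∈ f, a ∈ I := by
    intro a ha
    obtain ⟨x, -, rfl⟩ := List.mem_map.1 ha
    exact hcI _
  have heq : Ideal.ofList l = Ideal.ofList (f.map (algebraMap A T)) := by
    refine le_antisymm (Ideal.span_le.2 fun x hx => ?_) ?_
    · have hm : algebraMap A T (c ⟨x, List.mem_toFinset.2 hx⟩) ∈ Ideal.ofList (f.map (algebraMap A T)) :=
        Ideal.subset_span (List.mem_map.2 ⟨_, List.mem_map.2 ⟨⟨x, hx⟩, List.mem_attach _ _, rfl⟩, rfl⟩)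
      rw [hc] at hm
      exact (Ideal.unit_mul_mem_iff_mem _ (hv _)).1 hm
    · rw [← he, ← Ideal.map_ofList]
      exact Ideal.map_mono (Ideal.span_le.2 hfI)
  refine ⟨g, hg, f, hfI, reg_transfer hl heq ?_, he.trans heq⟩
  simp [f]

/-- Charts restrict to smaller basic opens. -/
theorem chart_restrict {I : Ideal A} {g g' : A} (hd : g ∣ g') {f : List A}
    (hf : LCI.IsKoszulRegularSeq (Localization.Away g) (f.map (algebraMap A (Localization.Away g))))
    (he : I.map (algebraMap A (Localization.Away g)) =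
      Ideal.ofList (f.map (algebraMap A (Localization.Away g))))
    (T : Type u) [CommRing T] [Algebra A T] [IsLocalization.Away g' T] :
    LCI.IsKoszulRegularSeq T (f.map (algebraMap A T)) ∧
      I.map (algebraMap A T) = Ideal.ofList (f.map (algebraMap A T)) := by
  let G := Localization.Away g
  have hu : IsUnit (algebraMap A T g) :=
    isUnit_of_dvd_unit (map_dvd _ hd) (IsLocalization.Away.algebraMap_isUnit g')
  letI : Algebra G T := (IsLocalization.Away.lift g hu).toAlgebra
  haveI : IsScalarTower A G T :=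
    IsScalarTower.of_algebraMap_eq fun a => (IsLocalization.Away.lift_eq g hu a).symm
  obtain ⟨d, rfl⟩ := hd
  haveI : Module.Flat A T := IsLocalization.flat T (Submonoid.powers (g * d))
  haveI : Module.Flat G T :=
    (Module.flat_iff_of_isLocalization G (Submonoid.powers g) T).2 inferInstance
  have hcomp : (algebraMap G T).comp (algebraMap A G) = algebraMap A T :=
    (IsScalarTower.algebraMap_eq A G T).symm
  refine ⟨?_, ?_⟩
  · have := H17.KoszulBC.isKoszulRegularSeq_map T hf
    rwa [List.map_map, ← RingHom.coe_comp, hcomp] at this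
  · rw [← hcomp, ← Ideal.map_map, he, Ideal.map_ofList, List.map_map, RingHom.coe_comp]

/-- Finitely generated ideals which agree at a prime agree nearby. -/
theorem exists_away_eq (K₁ K₂ : Ideal A) (h₁ : K₁.FG) (h₂ : K₂.FG) (P : Ideal A) [P.IsPrime]
    (h : K₁.map (algebraMap A (Localization.AtPrime P)) = K₂.map (algebraMap A (Localization.AtPrime P))) :
    ∃ g : A, g ∉ P ∧ ∀ (T : Type u) [CommRing T] [Algebra A T], IsUnit (algebraMap A T g) →
      K₁.map (algebraMap A T) = K₂.map (algebraMap A T) := by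
  classical
  have key : ∀ {K K' : Ideal A}, K.FG →
      K.map (algebraMap A (Localization.AtPrime P)) ≤ K'.map (algebraMap A (Localization.AtPrime P)) →
      ∃ g, g ∉ P ∧ ∀ x ∈ K, g * x ∈ K' := by
    intro K K' hK hle
    obtain ⟨s, rfl⟩ := hK
    have : ∀ x ∈ s, ∃ g ∈ P.primeCompl, g * x ∈ K' := fun x hx =>
      (IsLocalization.algebraMap_mem_map_algebraMap_iff P.primeCompl (Localization.AtPrime P) K' x).1
        (hle (Ideal.mem_map_of_mem _ (Ideal.subset_span hx)))
    choose! c hc hcx using this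
    refine ⟨∏ x ∈ s, c x, Submonoid.prod_mem P.primeCompl hc, fun x hx => ?_⟩
    induction hx using Submodule.span_induction with
    | mem y hy =>
      obtain ⟨r, hr⟩ := Finset.dvd_prod_of_mem c hy
      rw [hr, mul_comm (c y), mul_assoc]
      exact Ideal.mul_mem_left _ _ (hcx y hy)
    | zero => simp
    | add y z _ _ hy hz => rw [mul_add]; exact add_mem hy hz
    | smul r y _ hy => rw [smul_eq_mul, mul_left_comm]; exact Ideal.mul_mem_left _ _ hy
  obtain ⟨g₁, hg₁, H₁⟩ := key h₁ h.le
  obtain ⟨g₂, hg₂, H₂⟩ := key h₂ h.ge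
  refine ⟨g₁ * g₂, fun hm => (Ideal.IsPrime.mem_or_mem ‹_› hm).elim hg₁ hg₂, fun T _ _ hu => ?_⟩
  have le : ∀ {K K' : Ideal A} {g : A}, IsUnit (algebraMap A T g) → (∀ x ∈ K, g * x ∈ K') →
      K.map (algebraMap A T) ≤ K'.map (algebraMap A T) := fun {K K' g} hg H =>
    Ideal.map_le_iff_le_comap.2 fun x hx => by
      rw [Ideal.mem_comap, ← Ideal.unit_mul_mem_iff_mem _ hg, ← map_mul]
      exact Ideal.mem_map_of_mem _ (H x hx)
  rw [map_mul, IsUnit.mul_iff] at hu
  exact le_antisymm (le hu.1 H₁) (le hu.2 H₂)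

end Chart

section Master

variable {A Q : Type u} [CommRing A] [CommRing Q] [Algebra A Q] (F : List Q) (I : Ideal A) (J : Ideal Q)

/-- The localization of `Q/(F)` away from an element, with the map to it from the localization of `Q`. -/
theorem exists_locQuot (γ : Q) :
    ∃ q : Localization.Away γ →+* Localization.Away (Ideal.Quotient.mk (Ideal.ofList F) γ),
      Function.Surjective q ∧
      q.comp (algebraMap Q (Localization.Away γ)) =
        (algebraMap (Q ⧸ Ideal.ofList F) (Localization.Away (Ideal.Quotient.mk (Ideal.ofList F) γ))).comp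
          (Ideal.Quotient.mk (Ideal.ofList F)) ∧
      RingHom.ker q = Ideal.ofList (F.map (algebraMap Q (Localization.Away γ))) := by
  let π := Ideal.Quotient.mk (Ideal.ofList F)
  let q := IsLocalization.Away.map (Localization.Away γ) (Localization.Away (π γ)) π γ
  have hmap : (Submonoid.powers γ).map π = Submonoid.powers (π γ) := Submonoid.map_powers _ _
  haveI : IsLocalization ((Submonoid.powers γ).map π) (Localization.Away (π γ)) := by
    rw [hmap]
    infer_instance
  refine ⟨q, IsLocalization.map_surjective_of_surjective _ _ _ Ideal.Quotient.mk_surjective,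
    IsLocalization.map_comp _, ?_⟩
  show RingHom.ker (IsLocalization.map _ π _) = _
  rw [IsLocalization.ker_map _ π hmap, Ideal.mk_ker, Ideal.map_ofList]

variable [Module.Flat A (Q ⧸ Ideal.ofList F)]

/-- A Koszul-regular ideal of the base stays so with the equations of a flat complete intersection. -/
theorem KRAt.up (hF : LCI.IsKoszulRegularSeq Q F) (P : Ideal Q) [P.IsPrime]
    (hJ : ∃ γ₀ : Q, γ₀ ∉ P ∧ J.map (algebraMap Q (Localization.Away γ₀)) =
      (I.map (algebraMap A Q) ⊔ Ideal.ofList F).map (algebraMap Q (Localization.Away γ₀)))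
    (h : KRAt I (P.under A)) : KRAt J P := by
  obtain ⟨g, hg, f, -, hf, hIf⟩ := h.exists_chart
  obtain ⟨γ₀, hγ₀, hJ0⟩ := hJ
  let γ := γ₀ * algebraMap A Q g
  let Qγ := Localization.Away γ
  let Bγ := Localization.Away (Ideal.Quotient.mk (Ideal.ofList F) γ)
  have hγ : γ ∉ P := fun hm => (Ideal.IsPrime.mem_or_mem ‹_› hm).elim hγ₀ hg
  obtain ⟨q, hq, hqc, hker⟩ := exists_locQuot F γ
  haveI : Module.Flat Q Qγ := IsLocalization.flat Qγ (Submonoid.powers γ)
  have hFγ : LCI.IsKoszulRegularSeq Qγ (F.map (algebraMap Q Qγ)) :=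
    H17.KoszulBC.isKoszulRegularSeq_map Qγ hF
  have hgu : IsUnit (algebraMap A Qγ g) := by
    rw [IsScalarTower.algebraMap_apply A Q Qγ]
    exact isUnit_of_dvd_unit (map_dvd _ (dvd_mul_left _ _)) (IsLocalization.Away.algebraMap_isUnit γ)
  have hgu' : IsUnit (algebraMap A Bγ g) := by
    have := hgu.map q
    rwa [IsScalarTower.algebraMap_apply A Q Qγ, ← RingHom.comp_apply, hqc, RingHom.comp_apply,
      Ideal.Quotient.mk_algebraMap, ← IsScalarTower.algebraMap_apply A (Q ⧸ Ideal.ofList F) Bγ] at this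
  let G := Localization.Away g
  letI : Algebra G Bγ := (IsLocalization.Away.lift g hgu').toAlgebra
  haveI : IsScalarTower A G Bγ :=
    IsScalarTower.of_algebraMap_eq fun a => (IsLocalization.Away.lift_eq g hgu' a).symm
  haveI : Module.Flat (Q ⧸ Ideal.ofList F) Bγ :=
    IsLocalization.flat Bγ (Submonoid.powers (Ideal.Quotient.mk (Ideal.ofList F) γ))
  haveI : Module.Flat A Bγ := Module.Flat.trans A (Q ⧸ Ideal.ofList F) Bγ
  haveI : Module.Flat G Bγ := (Module.flat_iff_of_isLocalization G (Submonoid.powers g) Bγ).2 inferInstance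
  let fQ := f.map (algebraMap A Qγ)
  have hfB : fQ.map q = (f.map (algebraMap A G)).map (algebraMap G Bγ) := by
    simp only [fQ, List.map_map]
    refine List.map_congr_left fun a _ => ?_
    show q (algebraMap A Qγ a) = algebraMap G Bγ (algebraMap A G a)
    rw [← IsScalarTower.algebraMap_apply, IsScalarTower.algebraMap_apply A Q Qγ, ← RingHom.comp_apply,
      hqc, RingHom.comp_apply, Ideal.Quotient.mk_algebraMap,
      ← IsScalarTower.algebraMap_apply A (Q ⧸ Ideal.ofList F) Bγ]
  have hreg : LCI.IsKoszulRegularSeq Qγ (fQ ++ F.map (algebraMap Q Qγ)) :=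
    H17.KoszComp.isKoszulRegularSeq_append q hq hFγ hker
      (hfB ▸ H17.KoszulBC.isKoszulRegularSeq_map Bγ hf)
  refine KRAt.of_away hγ Qγ hreg ?_
  letI : Algebra G Qγ := (IsLocalization.Away.lift g hgu).toAlgebra
  haveI : IsScalarTower A G Qγ :=
    IsScalarTower.of_algebraMap_eq fun a => (IsLocalization.Away.lift_eq g hgu a).symm
  have hI : (I.map (algebraMap A Q)).map (algebraMap Q Qγ) = Ideal.ofList fQ := by
    rw [Ideal.map_map, ← IsScalarTower.algebraMap_eq, IsScalarTower.algebraMap_eq A G Qγ, ← Ideal.map_map,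
      hIf, Ideal.map_ofList, List.map_map]
    refine congrArg Ideal.ofList (List.map_congr_left fun a _ => ?_)
    exact (IsScalarTower.algebraMap_apply A G Qγ a).symm
  have hu₀ : IsUnit (algebraMap Q Qγ γ₀) :=
    isUnit_of_dvd_unit (map_dvd _ (dvd_mul_right _ _)) (IsLocalization.Away.algebraMap_isUnit γ)
  rw [← IsLocalization.Away.lift_comp (S := Localization.Away γ₀) γ₀ hu₀, ← Ideal.map_map, hJ0,
    Ideal.map_map, IsLocalization.Away.lift_comp, Ideal.map_sup, Ideal.ofList_append, hI,
    Ideal.map_ofList]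

/-- Conversely, when the equations are irredundant on the fibre, the ideal of the base is
Koszul-regular. -/
theorem KRAt.down [Algebra.FinitePresentation A (Q ⧸ Ideal.ofList F)] (hF : LCI.IsKoszulRegularSeq Q F)
    (P : Ideal Q) [P.IsPrime] (hJP : J ≤ P)
    (hJ : ∃ γ₀ : Q, γ₀ ∉ P ∧ J.map (algebraMap Q (Localization.Away γ₀)) =
      (I.map (algebraMap A Q) ⊔ Ideal.ofList F).map (algebraMap Q (Localization.Away γ₀)))
    {L : Type u} [CommRing L] (φ : Q →+* L) (hφ : ∀ x ∉ P, IsUnit (φ x))
    (hφp : ∀ a ∈ P.under A, φ (algebraMap A Q a) = 0) (hirr : Irred (F.map φ))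
    (h : KRAt J P) : KRAt I (P.under A) := by
  classical
  obtain ⟨γ₁, hγ₁, hQ, hhJ, hreg, hJh⟩ := h.exists_chart
  obtain ⟨γ₀, hγ₀, hJ0⟩ := hJ
  let QP := Localization.AtPrime P
  let ι := algebraMap Q QP
  have hu : ∀ x ∉ P, IsUnit (algebraMap Q QP x) := fun x hx =>
    IsLocalization.map_units (M := P.primeCompl) QP ⟨x, hx⟩
  -- the ideal at the point
  have hJPQ : J.map ι = (I.map (algebraMap A Q) ⊔ Ideal.ofList F).map ι := by
    show J.map (algebraMap Q QP) = (I.map (algebraMap A Q) ⊔ Ideal.ofList F).map (algebraMap Q QP)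
    rw [← IsLocalization.Away.lift_comp (S := Localization.Away γ₀) γ₀ (hu γ₀ hγ₀), ← Ideal.map_map, hJ0,
      Ideal.map_map, IsLocalization.Away.lift_comp]
  have hJPh : J.map ι = Ideal.ofList (hQ.map ι) := by
    show J.map (algebraMap Q QP) = Ideal.ofList (hQ.map (algebraMap Q QP))
    rw [← IsLocalization.Away.lift_comp (S := Localization.Away γ₁) γ₁ (hu γ₁ hγ₁), ← Ideal.map_map, hJh,
      Ideal.map_ofList, List.map_map, RingHom.coe_comp]
  have hIP : I ≤ P.under A := by
    intro a ha
    by_contra hna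
    have hone : (I.map (algebraMap A Q) ⊔ Ideal.ofList F).map ι = ⊤ :=
      Ideal.eq_top_of_isUnit_mem _
        (Ideal.mem_map_of_mem _ (Ideal.mem_sup_left (Ideal.mem_map_of_mem _ ha))) (hu _ hna)
    rw [← hJPQ] at hone
    have : J.map ι ≤ IsLocalRing.maximalIdeal QP := by
      rw [← Localization.AtPrime.map_eq_maximalIdeal]
      exact Ideal.map_mono hJP
    exact (IsLocalRing.maximalIdeal.isMaximal QP).ne_top (top_le_iff.1 (hone ▸ this))
  have hne : Ideal.ofList (hQ.map ι) ≠ ⊤ := by
    rw [← hJPh]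
    refine fun e => (IsLocalRing.maximalIdeal.isMaximal QP).ne_top (top_le_iff.1 ?_)
    rw [← e, ← Localization.AtPrime.map_eq_maximalIdeal]
    exact Ideal.map_mono hJP
  have hk : RegImm.Kind.koszul ≠ RegImm.Kind.regular := by decide
  have hhirr : Irred (hQ.map ι) := by
    let G₁ := Localization.Away γ₁
    letI : Algebra G₁ QP := (IsLocalization.Away.lift γ₁ (hu γ₁ hγ₁)).toAlgebra
    haveI : IsScalarTower Q G₁ QP :=
      IsScalarTower.of_algebraMap_eq fun a => (IsLocalization.Away.lift_eq γ₁ (hu γ₁ hγ₁) a).symm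
    haveI : Module.Flat G₁ QP := (Module.flat_iff_of_isLocalization G₁ (Submonoid.powers γ₁) QP).2 inferInstance
    have := H17.KoszulBC.isKoszulRegularSeq_map QP hreg
    rw [List.map_map, ← RingHom.coe_comp, ← IsScalarTower.algebraMap_eq] at this
    exact irred_of_quasi (quasi_of_seq hk this) hne
  -- finitely many elements of `I` suffice
  let S : Set QP := (fun a => ι (algebraMap A Q a)) '' (I : Set A)
  have hspan : J.map ι = Ideal.span S ⊔ Ideal.ofList (F.map ι) := by
    rw [hJPQ, Ideal.map_sup, Ideal.map_ofList]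
    congr 1
    rw [Ideal.map_map]
    exact rfl
  have hex : ∃ n, ∃ f : List A, f.length = n ∧ (∀ a ∈ f, a ∈ I) ∧
      J.map ι = Ideal.ofList (f.map (fun a => ι (algebraMap A Q a)) ++ F.map ι) := by
    have hfin : (J.map ι).FG := by rw [hJPh]; exact ⟨(hQ.map ι).toFinset, by simp [Ideal.ofList]⟩
    have hfg : ∃ T : Finset A, (∀ a ∈ T, a ∈ I) ∧
        J.map ι ≤ Ideal.span ((fun a => ι (algebraMap A Q a)) '' (T : Set A)) ⊔ Ideal.ofList (F.map ι) := by
      obtain ⟨s, hs⟩ := hfin
      have : ∀ x ∈ s, ∃ T : Finset A, (∀ a ∈ T, a ∈ I) ∧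
          x ∈ Ideal.span ((fun a => ι (algebraMap A Q a)) '' (T : Set A)) ⊔ Ideal.ofList (F.map ι) := by
        intro x hx
        have hxJ : x ∈ Ideal.span S ⊔ Ideal.ofList (F.map ι) := hspan ▸ hs ▸ Ideal.subset_span hx
        obtain ⟨y, hy, z, hz, rfl⟩ := Submodule.mem_sup.1 hxJ
        obtain ⟨T', hT', hyT⟩ := Submodule.mem_span_finite_of_mem_span hy
        choose! pre hpre hpre' using fun b (hb : b ∈ T') => hT' hb
        refine ⟨T'.image pre, fun a ha => ?_, Submodule.add_mem_sup (Submodule.span_mono ?_ hyT) hz⟩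
        · obtain ⟨b, hb, rfl⟩ := Finset.mem_image.1 ha
          exact hpre b hb
        · intro b hb
          exact ⟨pre b, Finset.mem_coe.2 (Finset.mem_image_of_mem pre hb), hpre' b hb⟩
      choose! T hTI hTx using this
      refine ⟨s.biUnion T, fun a ha => ?_, ?_⟩
      · obtain ⟨x, hx, hax⟩ := Finset.mem_biUnion.1 ha
        exact hTI x hx a hax
      · rw [← hs]
        refine Ideal.span_le.2 fun x hx => SetLike.le_def.1 (sup_le_sup (Ideal.span_mono (Set.image_mono ?_)) le_rfl) (hTx x hx)
        exact fun a ha => Finset.mem_biUnion.2 ⟨x, hx, ha⟩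
    obtain ⟨T, hTI, hT⟩ := hfg
    refine ⟨_, T.toList, rfl, fun a ha => hTI a (Finset.mem_toList.1 ha), le_antisymm ?_ ?_⟩
    · refine hT.trans (le_of_eq ?_)
      rw [Ideal.ofList_append]
      congr 1
      refine congrArg Ideal.span (Set.ext fun b => ?_)
      simp
    · rw [hspan, Ideal.ofList_append]
      refine sup_le_sup_right (Ideal.span_le.2 fun b hb => Ideal.subset_span ?_) _
      obtain ⟨a, ha, rfl⟩ := List.mem_map.1 hb
      exact ⟨a, hTI a (Finset.mem_toList.1 ha), rfl⟩
  obtain ⟨f, hflen, hfI, hfspan⟩ := Nat.find_spec hex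
  -- the lifts and equations are irredundant
  have hφu : ∀ x : P.primeCompl, IsUnit (φ x) := fun x => hφ x x.2
  let ψ : QP →+* L := IsLocalization.lift hφu
  have hψ : ∀ x, ψ (ι x) = φ x := fun x => IsLocalization.lift_eq hφu x
  have hfF : Irred (f.map (fun a => ι (algebraMap A Q a)) ++ F.map ι) := by
    intro l a m heq ha
    rcases List.append_eq_append_iff.1 heq with ⟨as, h1, h2⟩ | ⟨bs, h1, h2⟩
    · subst h1
      have hmem := Ideal.mem_map_of_mem ψ ha
      rw [Ideal.map_ofList] at hmem
      have hF' : F.map φ = as.map ψ ++ ψ a :: m.map ψ := by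
        rw [← List.map_cons, ← List.map_append, ← h2, List.map_map]
        exact List.map_congr_left fun x _ => (hψ x).symm
      refine hirr (as.map ψ) (ψ a) (m.map ψ) hF' (SetLike.le_def.1 (Ideal.span_le.2 ?_) hmem)
      intro b hb
      simp only [Set.mem_setOf_eq, List.map_append, List.map_map, List.mem_append, List.mem_map] at hb
      rcases hb with (⟨x, hx, rfl⟩ | hb) | hb
      · show ψ (ι (algebraMap A Q x)) ∈ Ideal.ofList (as.map ψ ++ m.map ψ)
        rw [hψ, hφp x (hIP (hfI x hx))]
        exact zero_mem _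
      · obtain ⟨x, hx, rfl⟩ := hb
        exact Ideal.subset_span (List.mem_append_left _ (List.mem_map_of_mem hx))
      · obtain ⟨x, hx, rfl⟩ := hb
        exact Ideal.subset_span (List.mem_append_right _ (List.mem_map_of_mem hx))
    · cases bs with
      | nil =>
        have hmem := Ideal.mem_map_of_mem ψ ha
        rw [Ideal.map_ofList, List.map_append] at hmem
        rw [List.append_nil] at h1
        subst h1
        rw [List.nil_append] at h2
        have hF' : F.map φ = [] ++ ψ a :: m.map ψ := by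
          rw [List.nil_append, ← List.map_cons, h2, List.map_map]
          exact List.map_congr_left fun x _ => (hψ x).symm
        refine hirr [] (ψ a) (m.map ψ) hF' (SetLike.le_def.1 (Ideal.span_le.2 ?_) hmem)
        intro b hb
        simp only [Set.mem_setOf_eq, List.map_map, List.mem_append, List.mem_map] at hb
        rcases hb with ⟨x, hx, rfl⟩ | ⟨x, hx, rfl⟩
        · show ψ (ι (algebraMap A Q x)) ∈ Ideal.ofList ([] ++ m.map ψ)
          rw [hψ, hφp x (hIP (hfI x hx))]
          exact zero_mem _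
        · exact Ideal.subset_span (List.mem_map_of_mem hx)
      | cons b bs =>
        rw [List.cons_append, List.cons.injEq] at h2
        obtain ⟨rfl, rfl⟩ := h2
        obtain ⟨f₁, f₂, rfl, rfl, h3⟩ := List.map_eq_append_iff.1 h1
        obtain ⟨c, f₃, rfl, rfl, rfl⟩ := List.map_eq_cons_iff.1 h3
        refine Nat.find_min hex (m := (f₁ ++ f₃).length) (by rw [← hflen]; simp) ⟨f₁ ++ f₃, rfl, fun d hd => hfI d ?_, ?_⟩
        · simp only [List.mem_append, List.mem_cons] at hd ⊢
          tauto
        · rw [hfspan, List.map_append, List.map_cons,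
            show f₁.map (fun a => ι (algebraMap A Q a)) ++ ι (algebraMap A Q c) ::
                f₃.map (fun a => ι (algebraMap A Q a)) ++ F.map ι =
              f₁.map (fun a => ι (algebraMap A Q a)) ++ ι (algebraMap A Q c) ::
                (f₃.map (fun a => ι (algebraMap A Q a)) ++ F.map ι) by simp,
            ofList_perm List.perm_middle, Ideal.ofList_cons, List.map_append, List.append_assoc,
            sup_eq_right, Ideal.span_singleton_le_iff_mem]
          exact ha
  let K₂ : List Q := f.map (algebraMap A Q) ++ F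
  have hK₂ : K₂.map ι = f.map (fun a => ι (algebraMap A Q a)) ++ F.map ι := by
    simp only [K₂, List.map_append, List.map_map]
    rfl
  have hlen : K₂.length ≤ hQ.length := by
    have := length_le_of_irred hfF (hJPh.symm.trans hfspan)
    rw [← hK₂] at this
    simpa using this
  obtain ⟨γ₂, hγ₂, hagree⟩ := exists_away_eq (Ideal.ofList hQ) (Ideal.ofList K₂)
    ⟨hQ.toFinset, by simp [Ideal.ofList]⟩ ⟨K₂.toFinset, by simp [Ideal.ofList]⟩ P
    (by rw [Ideal.map_ofList, Ideal.map_ofList, hK₂, ← hfspan, ← hJPh])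
  let γ := γ₀ * γ₁ * γ₂
  have hγ : γ ∉ P := fun hm => (Ideal.IsPrime.mem_or_mem ‹_› hm).elim
    (fun h => (Ideal.IsPrime.mem_or_mem ‹_› h).elim hγ₀ hγ₁) hγ₂
  let Qγ := Localization.Away γ
  let Bγ := Localization.Away (Ideal.Quotient.mk (Ideal.ofList F) γ)
  obtain ⟨q, hq, hqc, hker⟩ := exists_locQuot F γ
  obtain ⟨hreg', hJh'⟩ := chart_restrict (g' := γ)
    ((dvd_mul_left γ₁ γ₀).trans (dvd_mul_right _ _)) hreg hJh Qγ
  have hγu : ∀ d, d ∣ γ → IsUnit (algebraMap Q Qγ d) := fun d hd =>
    isUnit_of_dvd_unit (map_dvd _ hd) (IsLocalization.Away.algebraMap_isUnit γ)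
  have hag : Ideal.ofList (hQ.map (algebraMap Q Qγ)) = Ideal.ofList (K₂.map (algebraMap Q Qγ)) := by
    rw [← Ideal.map_ofList, ← Ideal.map_ofList]
    exact hagree Qγ (hγu γ₂ (dvd_mul_left _ _))
  have hK₂reg : LCI.IsKoszulRegularSeq Qγ (K₂.map (algebraMap Q Qγ)) :=
    reg_transfer hreg' hag (by simpa using hlen)
  have hFB : ∀ x ∈ Ideal.ofList F, q (algebraMap Q Qγ x) = 0 := fun x hx => by
    rw [← RingHom.mem_ker, hker, ← Ideal.map_ofList]
    exact Ideal.mem_map_of_mem _ hx
  have hfBreg : LCI.IsKoszulRegularSeq Bγ (f.map (algebraMap A Bγ)) := by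
    have hc : LCI.IsKoszulRegularSeq Qγ
        ((f.map (algebraMap A Q)).map (algebraMap Q Qγ) ++ F.map (algebraMap Q Qγ)) := by
      rw [← List.map_append]
      exact hK₂reg
    haveI : Module.Flat Q Qγ := IsLocalization.flat Qγ (Submonoid.powers γ)
    have := H17.KoszCancel.isKoszulRegularSeq_of_append q hq
      (H17.KoszulBC.isKoszulRegularSeq_map Qγ hF) hker hc
    rw [List.map_map, List.map_map] at this
    convert this using 1
    refine List.map_congr_left fun a _ => ?_
    show algebraMap A Bγ a = q (algebraMap Q Qγ (algebraMap A Q a))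
    rw [← RingHom.comp_apply q, hqc, RingHom.comp_apply, Ideal.Quotient.mk_algebraMap,
      ← IsScalarTower.algebraMap_apply]
  have hIB : I.map (algebraMap A Bγ) ≤ Ideal.ofList (f.map (algebraMap A Bγ)) := by
    refine Ideal.map_le_iff_le_comap.2 fun a ha => ?_
    have h1 : algebraMap Q Qγ (algebraMap A Q a) ∈ Ideal.ofList (K₂.map (algebraMap Q Qγ)) := by
      rw [← hag, ← hJh', ← IsLocalization.Away.lift_comp (S := Localization.Away γ₀) γ₀
        (hγu γ₀ ((dvd_mul_right _ _).trans (dvd_mul_right _ _))), ← Ideal.map_map, hJ0, Ideal.map_map,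
        IsLocalization.Away.lift_comp]
      exact Ideal.mem_map_of_mem _ (Ideal.mem_sup_left (Ideal.mem_map_of_mem _ ha))
    have h2 := Ideal.mem_map_of_mem q h1
    have hd : q (algebraMap Q Qγ (algebraMap A Q a)) = algebraMap A Bγ a := by
      rw [← RingHom.comp_apply q, hqc, RingHom.comp_apply, Ideal.Quotient.mk_algebraMap,
        ← IsScalarTower.algebraMap_apply]
    rw [hd, Ideal.map_ofList] at h2
    rw [Ideal.mem_comap]
    refine Ideal.span_le.2 ?_ h2
    intro b hb
    simp only [Set.mem_setOf_eq, K₂, List.map_append, List.map_map, List.mem_append, List.mem_map] at hb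
    rcases hb with ⟨x, hx, rfl⟩ | ⟨x, hx, rfl⟩
    · refine Ideal.subset_span (List.mem_map.2 ⟨x, hx, ?_⟩)
      show algebraMap A Bγ x = q (algebraMap Q Qγ (algebraMap A Q x))
      rw [← RingHom.comp_apply q, hqc, RingHom.comp_apply, Ideal.Quotient.mk_algebraMap,
        ← IsScalarTower.algebraMap_apply]
    · show q (algebraMap Q Qγ x) ∈ _
      rw [hFB x (Ideal.subset_span hx)]
      exact zero_mem _
  -- descend along the open image
  haveI : Module.Flat (Q ⧸ Ideal.ofList F) Bγ :=
    IsLocalization.flat Bγ (Submonoid.powers (Ideal.Quotient.mk (Ideal.ofList F) γ))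
  haveI : Module.Flat A Bγ := Module.Flat.trans A (Q ⧸ Ideal.ofList F) Bγ
  haveI : Algebra.FinitePresentation (Q ⧸ Ideal.ofList F) Bγ :=
    IsLocalization.Away.finitePresentation (Ideal.Quotient.mk (Ideal.ofList F) γ)
  haveI : Algebra.FinitePresentation A Bγ := Algebra.FinitePresentation.trans A (Q ⧸ Ideal.ofList F) Bγ
  have hFP : Ideal.ofList F ≤ P := by
    intro x hx
    by_contra hxP
    have h1 : ι x ∈ J.map ι := hJPQ ▸ Ideal.mem_map_of_mem _ (Ideal.mem_sup_right hx)
    have h2 := Ideal.map_mono (f := ι) hJP h1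
    rw [Localization.AtPrime.map_eq_maximalIdeal, IsLocalRing.mem_maximalIdeal] at h2
    exact h2 (hu x hxP)
  let Pb : Ideal (Q ⧸ Ideal.ofList F) := P.map (Ideal.Quotient.mk _)
  haveI : Pb.IsPrime := Ideal.map_isPrime_of_surjective Ideal.Quotient.mk_surjective
    (by rw [Ideal.mk_ker]; exact hFP)
  have hPb : Ideal.Quotient.mk (Ideal.ofList F) γ ∉ Pb := by
    rw [Ideal.mem_map_iff_of_surjective _ Ideal.Quotient.mk_surjective]
    rintro ⟨y, hy, hyγ⟩
    refine hγ ?_
    rw [show γ = y - (y - γ) by ring]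
    exact sub_mem hy (hFP (Ideal.Quotient.eq.1 hyγ))
  have hdisj := Ideal.disjoint_powers_iff_notMem (y := Ideal.Quotient.mk (Ideal.ofList F) γ)
    (‹Pb.IsPrime›.isRadical) |>.mpr hPb
  have hprime := IsLocalization.isPrime_of_isPrime_disjoint (Submonoid.powers (Ideal.Quotient.mk (Ideal.ofList F) γ))
    Bγ Pb ‹_› hdisj
  have hP₁ : (Pb.map (algebraMap _ Bγ)).under A = P.under A := by
    rw [← Ideal.under_under (B := Q ⧸ Ideal.ofList F),
      IsLocalization.under_map_of_isPrime_disjoint _ Bγ ‹_› hdisj]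
    ext a
    simp only [Ideal.mem_comap, Ideal.under_def, Pb]
    rw [← Ideal.Quotient.mk_algebraMap, Ideal.mem_map_iff_of_surjective _ Ideal.Quotient.mk_surjective]
    refine ⟨?_, fun h => ⟨_, h, rfl⟩⟩
    rintro ⟨y, hy, hya⟩
    rw [show algebraMap A Q a = y - (y - algebraMap A Q a) by ring]
    exact sub_mem hy (hFP (Ideal.Quotient.eq.1 hya))
  have hopen := PrimeSpectrum.isOpenMap_comap_of_hasGoingDown_of_finitePresentation (R := A) (S := Bγ)
  obtain ⟨_, ⟨g, rfl⟩, hgp, hsub⟩ := PrimeSpectrum.isTopologicalBasis_basic_opens.exists_subset_of_mem_open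
    (show (⟨P.under A, inferInstance⟩ : PrimeSpectrum A) ∈ Set.range (PrimeSpectrum.comap (algebraMap A Bγ))
      from ⟨⟨_, hprime⟩, PrimeSpectrum.ext hP₁⟩) hopen.isOpen_range
  let G := Localization.Away g
  have hcov : ∀ m : Ideal G, m.IsMaximal → ∃ (B : Type u) (_ : CommRing B) (_ : Algebra G B),
      Module.Flat G B ∧ m.map (algebraMap G B) ≠ ⊤ ∧
        LCI.IsKoszulRegularSeq B ((f.map (algebraMap A G)).map (algebraMap G B)) ∧
        ∀ a ∈ I, algebraMap G B (algebraMap A G a) ∈
          (Ideal.ofList (f.map (algebraMap A G))).map (algebraMap G B) := by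
    intro m hm
    have hgm : g ∉ m.under A := fun h =>
      hm.ne_top (Ideal.eq_top_of_isUnit_mem _ h (IsLocalization.Away.algebraMap_isUnit g))
    obtain ⟨Q₀, hQ₀⟩ := hsub (show (⟨m.under A, inferInstance⟩ : PrimeSpectrum A) ∈
      (PrimeSpectrum.basicOpen g : Set (PrimeSpectrum A)) from hgm)
    have hQ₀' : Q₀.asIdeal.under A = m.under A := congrArg PrimeSpectrum.asIdeal hQ₀
    let L₀ := Localization.AtPrime Q₀.asIdeal
    have hug : IsUnit (algebraMap A L₀ g) := by
      rw [IsScalarTower.algebraMap_apply A Bγ L₀]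
      refine IsLocalization.map_units (M := Q₀.asIdeal.primeCompl) L₀ ⟨_, fun h => hgm ?_⟩
      rw [← hQ₀']
      exact h
    letI : Algebra G L₀ := (IsLocalization.Away.lift g hug).toAlgebra
    haveI : IsScalarTower A G L₀ :=
      IsScalarTower.of_algebraMap_eq fun a => (IsLocalization.Away.lift_eq g hug a).symm
    haveI : Module.Flat A L₀ := Module.Flat.trans A Bγ L₀
    haveI : Module.Flat G L₀ := (Module.flat_iff_of_isLocalization G (Submonoid.powers g) L₀).2 inferInstance
    have hfmap : (f.map (algebraMap A G)).map (algebraMap G L₀) =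
        (f.map (algebraMap A Bγ)).map (algebraMap Bγ L₀) := by
      simp only [List.map_map]
      refine List.map_congr_left fun a _ => ?_
      simp only [Function.comp_apply, ← IsScalarTower.algebraMap_apply]
    refine ⟨L₀, inferInstance, inferInstance, inferInstance, fun htop => ?_, ?_, fun a ha => ?_⟩
    · have hle : m.map (algebraMap G L₀) ≤ IsLocalRing.maximalIdeal L₀ := by
        rw [← IsLocalization.map_under (Submonoid.powers g) G m, Ideal.map_map,
          ← IsScalarTower.algebraMap_eq, IsScalarTower.algebraMap_eq A Bγ L₀, ← Ideal.map_map, ← hQ₀',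
          ← Localization.AtPrime.map_eq_maximalIdeal]
        exact Ideal.map_mono Ideal.map_comap_le
      exact (IsLocalRing.maximalIdeal.isMaximal L₀).ne_top (top_le_iff.1 (htop ▸ hle))
    · rw [hfmap]
      exact H17.KoszulBC.isKoszulRegularSeq_map L₀ hfBreg
    · rw [← IsScalarTower.algebraMap_apply, IsScalarTower.algebraMap_apply A Bγ L₀, Ideal.map_ofList,
        hfmap, ← Ideal.map_ofList]
      exact Ideal.mem_map_of_mem _ (hIB (Ideal.mem_map_of_mem _ ha))
  refine KRAt.of_away hgp G (l := f.map (algebraMap A G)) ?_ ?_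
  · refine seq_descend (k := RegImm.Kind.koszul) hk _ fun m hm => ?_
    obtain ⟨B, i1, i2, h1, h2, h3, -⟩ := hcov m hm
    exact ⟨B, i1, i2, h1, h2, h3⟩
  · refine le_antisymm (Ideal.map_le_iff_le_comap.2 fun a ha => ?_) ?_
    · rw [Ideal.mem_comap]
      refine mem_of_flat_family (A := G) _ _ fun m hm => ?_
      obtain ⟨B, i1, i2, h1, h2, -, h4⟩ := hcov m hm
      exact ⟨B, i1, i2, h1, h2, h4 a ha⟩
    · rw [← Ideal.map_ofList]
      exact Ideal.map_mono (Ideal.span_le.2 hfI)

end Master

end Groth.Agent.H8Props.KoszImm
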