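import Groth.Agent.H8Props.KoszImm.Ring
import Groth.Agent.H29Slice.SmoothSection
import Groth.Agent.H29Slice.KoszulReg

/-!
# Koszul-regular ideals and standard smooth algebras

For a standard smooth `A`-algebra `B` and a surjection `B → A/I` of `A`-algebras with kernel `J`, the
ideal `I` is Koszul-regular near a point iff `J` is near the point above it.
-/

set_option autoImplicit false
set_option linter.style.haveILetI false

universe u

open MvPolynomial
open Groth.Agent.H17.RegDescent

namespace Groth.Agent.H8Props.KoszImm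

variable {A : Type u} [CommRing A]

/-- The translate of coordinates by constants is étale. -/
theorem exists_etale_coord {B E : Type u} [CommRing B] [CommRing E] [Algebra A B] [Algebra A E]
    (h : (algebraMap A B).IsStandardSmooth) (β : B →ₐ[A] E)
    (hα : Function.Surjective (algebraMap A E)) :
    ∃ (n : ℕ) (ψ : MvPolynomial (Fin n) A →ₐ[A] B), ψ.toRingHom.Etale ∧ ∀ i, β (ψ (X i)) = 0 := by
  obtain ⟨n, g, hgC, hg⟩ := h.exists_etale_mvPolynomial
  let γ : MvPolynomial (Fin n) A →ₐ[A] B :=
    { g with commutes' := fun a => RingHom.congr_fun hgC a }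
  choose a ha using fun i => hα (β (γ (X i)))
  let τ : MvPolynomial (Fin n) A →ₐ[A] MvPolynomial (Fin n) A := aeval fun i => X i - C (a i)
  let τ' : MvPolynomial (Fin n) A →ₐ[A] MvPolynomial (Fin n) A := aeval fun i => X i + C (a i)
  have h1 : τ.comp τ' = AlgHom.id A _ := algHom_ext fun i => by simp [τ, τ']
  have h2 : τ'.comp τ = AlgHom.id A _ := algHom_ext fun i => by simp [τ, τ']
  let e : MvPolynomial (Fin n) A ≃ₐ[A] MvPolynomial (Fin n) A := AlgEquiv.ofAlgHom τ τ' h1 h2
  refine ⟨n, γ.comp τ, ?_, fun i => ?_⟩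
  · exact RingHom.Etale.stableUnderComposition _ _ (RingHom.Etale.of_bijective e.bijective) hg
  · simp [τ, ha]

section Smooth

variable {B E : Type u} [CommRing B] [CommRing E] [Algebra A B] [Algebra A E] {n : ℕ}
  [Algebra (MvPolynomial (Fin n) A) B] [IsScalarTower A (MvPolynomial (Fin n) A) B]
  [Algebra.Etale (MvPolynomial (Fin n) A) B]

variable (A B n) in
/-- The coordinates in `B`. -/
noncomputable def coords : List B :=
  (List.ofFn fun i : Fin n => (X i : MvPolynomial (Fin n) A)).map (algebraMap _ B)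

theorem coords_reg : LCI.IsKoszulRegularSeq B (coords A B n) :=
  H17.KoszulBC.isKoszulRegularSeq_map B (H29Slice.isKoszulRegular_of_isWeaklyRegular (by
    simpa using H29Slice.isWeaklyRegular_X_append A n
      (rs := []) (RingTheory.Sequence.IsWeaklyRegular.nil A A)))

theorem algebraMap_sub_const (f : MvPolynomial (Fin n) A) :
    algebraMap _ B f - algebraMap A B (constantCoeff f) ∈ Ideal.ofList (coords A B n) := by
  induction f using MvPolynomial.induction_on with
  | C a =>
    rw [constantCoeff_C, ← MvPolynomial.algebraMap_eq, ← IsScalarTower.algebraMap_apply, sub_self]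
    exact zero_mem _
  | add p q hp hq =>
    rw [map_add, map_add, map_add, add_sub_add_comm]
    exact add_mem hp hq
  | mul_X p i hp =>
    rw [map_mul constantCoeff, constantCoeff_X, mul_zero, map_zero, sub_zero, map_mul]
    refine Ideal.mul_mem_left _ _ (Ideal.subset_span ?_)
    exact List.mem_map_of_mem (List.mem_ofFn.2 ⟨i, rfl⟩)

variable (A B n) in
/-- The slice cut out by the coordinates is étale over the base. -/
theorem etale_slice : Algebra.Etale A (B ⧸ Ideal.ofList (coords A B n)) := by
  letI : Algebra (MvPolynomial (Fin n) A) A := (constantCoeff : MvPolynomial (Fin n) A →+* A).toAlgebra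
  haveI : IsScalarTower A (MvPolynomial (Fin n) A) A :=
    IsScalarTower.of_algebraMap_eq fun a => (constantCoeff_C (Fin n) a).symm
  haveI : IsScalarTower (MvPolynomial (Fin n) A) A (B ⧸ Ideal.ofList (coords A B n)) :=
    IsScalarTower.of_algebraMap_eq fun p => by
      show Ideal.Quotient.mk _ (algebraMap _ B p) = algebraMap A _ (constantCoeff p)
      rw [← Ideal.Quotient.mk_algebraMap, Ideal.Quotient.eq]
      exact algebraMap_sub_const p
  let T := TensorProduct (MvPolynomial (Fin n) A) A B
  let Φ : T →ₐ[A] B ⧸ Ideal.ofList (coords A B n) :=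
    Algebra.TensorProduct.lift (Algebra.ofId A _)
      (Ideal.Quotient.mkₐ (MvPolynomial (Fin n) A) _) fun _ _ => Commute.all _ _
  refine Algebra.Etale.of_equiv (A := T) (AlgEquiv.ofBijective Φ ?_)
  have hle : Ideal.ofList (coords A B n) ≤
      RingHom.ker (Algebra.TensorProduct.includeRight : B →ₐ[MvPolynomial (Fin n) A] T) := by
    refine Ideal.span_le.2 fun b hb => ?_
    obtain ⟨f, hf, rfl⟩ := List.mem_map.1 hb
    obtain ⟨i, rfl⟩ := List.mem_ofFn.1 hf
    show Algebra.TensorProduct.includeRight (algebraMap _ B (X i)) = (0 : T)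
    rw [AlgHom.commutes, Algebra.TensorProduct.algebraMap_apply]
    show (constantCoeff (X i)) ⊗ₜ[MvPolynomial (Fin n) A] (1 : B) = 0
    rw [constantCoeff_X, TensorProduct.zero_tmul]
  constructor
  · let Ψ : (B ⧸ Ideal.ofList (coords A B n)) →+* T :=
      Ideal.Quotient.lift _ (Algebra.TensorProduct.includeRight :
        B →ₐ[MvPolynomial (Fin n) A] T).toRingHom fun b hb => hle hb
    refine Function.LeftInverse.injective (g := Ψ) fun x => ?_
    induction x using TensorProduct.induction_on with
    | zero => simp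
    | add x y hx hy => rw [map_add, map_add, hx, hy]
    | tmul a b =>
      have h1 : Φ (a ⊗ₜ b) = Ideal.Quotient.mk _ (algebraMap A B a * b) := by
        show algebraMap A (B ⧸ _) a * Ideal.Quotient.mk _ b = _
        rw [map_mul, Ideal.Quotient.mk_algebraMap]
      rw [h1]
      show (1 : A) ⊗ₜ[MvPolynomial (Fin n) A] (algebraMap A B a * b) = a ⊗ₜ b
      have h2 : algebraMap A B a * b = (C a : MvPolynomial (Fin n) A) • b := by
        rw [Algebra.smul_def, ← MvPolynomial.algebraMap_eq, ← IsScalarTower.algebraMap_apply]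
      have h3 : (C a : MvPolynomial (Fin n) A) • (1 : A) = a := by
        rw [Algebra.smul_def, mul_one]
        exact constantCoeff_C _ a
      rw [h2, ← TensorProduct.smul_tmul, h3]
  · intro y
    obtain ⟨b, rfl⟩ := Ideal.Quotient.mk_surjective y
    refine ⟨1 ⊗ₜ b, ?_⟩
    show algebraMap A (B ⧸ _) 1 * Ideal.Quotient.mk _ b = _
    rw [map_one, one_mul]

omit [Algebra (MvPolynomial (Fin n) A) B] [IsScalarTower A (MvPolynomial (Fin n) A) B]
  [Algebra.Etale (MvPolynomial (Fin n) A) B] in
/-- The augmentation ideal of an unramified algebra over a quotient of the base is a direct factor near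
the section. -/
theorem exists_away_ker_eq {D : Type u} [CommRing D] [Algebra A D] [Algebra.Etale A D]
    (δ : D →ₐ[A] E) (hα : Function.Surjective (algebraMap A E)) (P : Ideal D) [P.IsPrime]
    (hP : RingHom.ker δ.toRingHom ≤ P) :
    ∃ r : D, r ∉ P ∧ ∀ x ∈ RingHom.ker δ.toRingHom,
      r * x ∈ (RingHom.ker (algebraMap A E)).map (algebraMap A D) := by
  classical
  let J := RingHom.ker δ.toRingHom
  let K := (RingHom.ker (algebraMap A E)).map (algebraMap A D)
  have hKJ : K ≤ J := Ideal.map_le_iff_le_comap.2 fun a ha => by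
    show δ (algebraMap A D a) = 0
    rw [δ.commutes]
    exact ha
  choose α hα' using fun x => hα (δ x)
  have hJ : ∀ x, x - algebraMap A D (α x) ∈ J := fun x => by
    show δ (x - algebraMap A D (α x)) = 0
    rw [map_sub, δ.commutes, hα', sub_self]
  have hαK : ∀ x a, x - algebraMap A D a ∈ J → algebraMap A D (α x) - algebraMap A D a ∈ K := by
    intro x a hxa
    rw [← map_sub]
    refine Ideal.mem_map_of_mem _ ?_
    show algebraMap A E (α x - a) = 0
    have := (RingHom.mem_ker).1 hxa
    rw [AlgHom.toRingHom_eq_coe, RingHom.coe_coe, map_sub, δ.commutes] at this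
    rw [map_sub, hα', this]
  -- `J` is finitely generated modulo `K`
  obtain ⟨gs, hgs⟩ := (inferInstance : Algebra.FiniteType A D).out
  let T : Finset D := gs.image fun x => x - algebraMap A D (α x)
  have hgen : ∀ x, x - algebraMap A D (α x) ∈ K ⊔ Ideal.span (T : Set D) := by
    have key : ∀ x, ∃ a, x - algebraMap A D a ∈ Ideal.span (T : Set D) := by
      intro x
      have hx : x ∈ Algebra.adjoin A (gs : Set D) := hgs ▸ trivial
      induction hx using Algebra.adjoin_induction with
      | mem y hy => exact ⟨α y, Ideal.subset_span (Finset.mem_image_of_mem _ hy)⟩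
      | algebraMap a => exact ⟨a, by simp⟩
      | add y z _ _ hy hz =>
        obtain ⟨a, ha⟩ := hy
        obtain ⟨b, hb⟩ := hz
        exact ⟨a + b, by rw [map_add, add_sub_add_comm]; exact add_mem ha hb⟩
      | mul y z _ _ hy hz =>
        obtain ⟨a, ha⟩ := hy
        obtain ⟨b, hb⟩ := hz
        refine ⟨a * b, ?_⟩
        rw [map_mul, show y * z - algebraMap A D a * algebraMap A D b =
          (y - algebraMap A D a) * z + algebraMap A D a * (z - algebraMap A D b) by ring]
        exact add_mem (Ideal.mul_mem_right _ _ ha) (Ideal.mul_mem_left _ _ hb)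
    intro x
    obtain ⟨a, ha⟩ := key x
    have hTJ : Ideal.span (T : Set D) ≤ J := Ideal.span_le.2 fun y hy => by
      obtain ⟨z, -, rfl⟩ := Finset.mem_image.1 hy
      exact hJ z
    rw [show x - algebraMap A D (α x) =
      -(algebraMap A D (α x) - algebraMap A D a) + (x - algebraMap A D a) by ring]
    exact Submodule.add_mem_sup (neg_mem (hαK x a (hTJ ha))) ha
  let L : Ideal (D ⧸ K) := J.map (Ideal.Quotient.mk K)
  have hL : L.FG := by
    refine ⟨T.image (Ideal.Quotient.mk K), le_antisymm (Ideal.span_le.2 ?_) ?_⟩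
    · intro y hy
      obtain ⟨z, hz, rfl⟩ := Finset.mem_image.1 hy
      obtain ⟨w, -, rfl⟩ := Finset.mem_image.1 hz
      exact Ideal.mem_map_of_mem _ (hJ w)
    · refine Ideal.map_le_iff_le_comap.2 fun x hx => ?_
      have h1 : algebraMap A D (α x) ∈ K := by
        simpa using hαK x 0 (by simpa using hx)
      have h2 : x ∈ K ⊔ Ideal.span (T : Set D) := by
        rw [← sub_add_cancel x (algebraMap A D (α x))]
        exact add_mem (hgen x) (Ideal.mem_sup_left h1)
      rw [Ideal.mem_comap, Finset.coe_image, ← Ideal.map_span]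
      have := Ideal.mem_map_of_mem (Ideal.Quotient.mk K) h2
      rwa [Ideal.map_sup, Ideal.map_quotient_self, bot_sup_eq] at this
  -- the idempotent condition
  let P₀ : Ideal D := J * J ⊔ K
  let δ₀ : D → D ⧸ P₀ := fun x => Ideal.Quotient.mk P₀ (x - algebraMap A D (α x))
  have hwd : ∀ x a, x - algebraMap A D a ∈ J → δ₀ x = Ideal.Quotient.mk P₀ (x - algebraMap A D a) := by
    intro x a ha
    refine Ideal.Quotient.eq.2 (Ideal.mem_sup_right ?_)
    rw [show x - algebraMap A D (α x) - (x - algebraMap A D a) =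
      -(algebraMap A D (α x) - algebraMap A D a) by ring]
    exact neg_mem (hαK x a ha)
  let δl : D →ₗ[A] D ⧸ P₀ :=
    { toFun := δ₀
      map_add' := fun x y => by
        rw [hwd (x + y) (α x + α y) (by rw [map_add, add_sub_add_comm]; exact add_mem (hJ x) (hJ y)),
          map_add, add_sub_add_comm, map_add]
      map_smul' := fun s x => by
        have e : s • x - algebraMap A D (s * α x) = algebraMap A D s * (x - algebraMap A D (α x)) := by
          rw [map_mul, Algebra.smul_def]; ring
        rw [hwd (s • x) (s * α x) (e ▸ Ideal.mul_mem_left _ _ (hJ x)), e, map_mul]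
        exact (Algebra.smul_def s (δ₀ x)).symm }
  let d : Derivation A D (D ⧸ P₀) := Derivation.mk' δl fun x y => by
    show δ₀ (x * y) = x • δ₀ y + y • δ₀ x
    have e : x * y - algebraMap A D (α x * α y) =
        x * (y - algebraMap A D (α y)) + y * (x - algebraMap A D (α x)) -
          (x - algebraMap A D (α x)) * (y - algebraMap A D (α y)) := by rw [map_mul]; ring
    have hmem : x * y - algebraMap A D (α x * α y) ∈ J := e ▸ sub_mem
      (add_mem (Ideal.mul_mem_left _ _ (hJ y)) (Ideal.mul_mem_left _ _ (hJ x))) (Ideal.mul_mem_left _ _ (hJ y))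
    rw [hwd _ _ hmem, e, map_sub, map_add, map_mul, map_mul,
      Ideal.Quotient.eq_zero_iff_mem.2 (Ideal.mem_sup_left (Ideal.mul_mem_mul (hJ x) (hJ y)) :
        (x - algebraMap A D (α x)) * (y - algebraMap A D (α y)) ∈ P₀), sub_zero]
    rfl
  have hd0 : ∀ x, d x = 0 := fun x => by
    rw [← Derivation.liftKaehlerDifferential_comp_D d x,
      Subsingleton.elim (KaehlerDifferential.D A D x) 0, map_zero]
  have hLL : L ≤ L • L := by
    refine Ideal.map_le_iff_le_comap.2 fun x hx => ?_
    have h1 : x ∈ P₀ := by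
      have h2 : δ₀ x = 0 := hd0 x
      rw [hwd x 0 (by simpa using hx), map_zero, sub_zero] at h2
      exact Ideal.Quotient.eq_zero_iff_mem.1 h2
    rw [Ideal.mem_comap, smul_eq_mul]
    have := Ideal.mem_map_of_mem (Ideal.Quotient.mk K) h1
    rwa [Ideal.map_sup, Ideal.map_quotient_self, sup_bot_eq, Ideal.map_mul] at this
  obtain ⟨r₀, hr₀, hr0⟩ := Submodule.exists_sub_one_mem_and_smul_eq_zero_of_fg_of_le_smul L L hL hLL
  obtain ⟨r, rfl⟩ := Ideal.Quotient.mk_surjective r₀
  refine ⟨r, fun hrP => ?_, fun x hx => Ideal.Quotient.eq_zero_iff_mem.1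
    ((map_mul _ _ _).trans (hr0 _ (Ideal.mem_map_of_mem _ hx)))⟩
  rw [← map_one (Ideal.Quotient.mk K), ← map_sub,
    Ideal.mem_map_iff_of_surjective _ Ideal.Quotient.mk_surjective] at hr₀
  obtain ⟨y, hy, hyr⟩ := hr₀
  refine ‹P.IsPrime›.ne_top ((Ideal.eq_top_iff_one _).2 ?_)
  rw [show (1 : D) = r - y + (y - (r - 1)) by ring]
  exact add_mem (sub_mem hrP (hP hy)) ((hKJ.trans hP) (Ideal.Quotient.eq.1 hyr))

variable (A B n) in
omit [IsScalarTower A (MvPolynomial (Fin n) A) B] in
/-- The coordinates are irredundant on the fibre at a point where they vanish. -/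
theorem exists_irred_fibre [IsScalarTower A (MvPolynomial (Fin n) A) B] (P : Ideal B) [P.IsPrime]
    (hP : Ideal.ofList (coords A B n) ≤ P) :
    ∃ (L : Type u) (_ : CommRing L) (φ : B →+* L), (∀ x ∉ P, IsUnit (φ x)) ∧
      (∀ a ∈ P.under A, φ (algebraMap A B a) = 0) ∧ Irred ((coords A B n).map φ) := by
  classical
  let κ := P.ResidueField
  let R := TrivSqZeroExt κ (Fin n → κ)
  let ev : MvPolynomial (Fin n) A →ₐ[A] R :=
    aeval fun i => TrivSqZeroExt.inr (Pi.single i 1 : Fin n → κ)
  letI : Algebra (MvPolynomial (Fin n) A) R := ev.toRingHom.toAlgebra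
  let fst : R →+* κ := (TrivSqZeroExt.fstHom κ κ (Fin n → κ)).toRingHom
  have hfst : ∀ p : MvPolynomial (Fin n) A, fst (ev p) = algebraMap _ κ p := by
    intro p
    induction p using MvPolynomial.induction_on with
    | C a =>
      rw [← MvPolynomial.algebraMap_eq, AlgHom.commutes, ← IsScalarTower.algebraMap_apply]
      show (algebraMap A R a).fst = _
      rfl
    | add p q hp hq => rw [map_add, map_add, map_add, hp, hq]
    | mul_X p i hp =>
      rw [map_mul, map_mul, map_mul, hp]
      congr 1
      have h0 : algebraMap B κ (algebraMap _ B (X i : MvPolynomial (Fin n) A)) = 0 :=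
        Ideal.algebraMap_residueField_eq_zero.2 (hP (Ideal.subset_span
          (List.mem_map_of_mem (List.mem_ofFn.2 ⟨i, rfl⟩))))
      rw [IsScalarTower.algebraMap_apply (MvPolynomial (Fin n) A) B κ, h0]
      show (ev (X i)).fst = 0
      rw [aeval_X, TrivSqZeroExt.fst_inr]
  let fstP : R →ₐ[MvPolynomial (Fin n) A] κ := { fst with commutes' := hfst }
  have hsurj : Function.Surjective fstP := fun k => ⟨TrivSqZeroExt.inl k, TrivSqZeroExt.fst_inl (Fin n → κ) k⟩
  have hnil : IsNilpotent (RingHom.ker (fstP : R →+* κ)) :=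
    ⟨2, TrivSqZeroExt.kerIdeal_sq κ (Fin n → κ)⟩
  let φ : B →ₐ[MvPolynomial (Fin n) A] R := Algebra.FormallySmooth.liftOfSurjective
    (IsScalarTower.toAlgHom (MvPolynomial (Fin n) A) B κ) fstP hsurj hnil
  have hφ : ∀ x, fstP (φ x) = algebraMap B κ x :=
    Algebra.FormallySmooth.liftOfSurjective_apply _ fstP hsurj hnil
  refine ⟨R, inferInstance, φ.toRingHom, fun x hx => ?_, fun a ha => ?_, ?_⟩
  · rw [TrivSqZeroExt.isUnit_iff_isUnit_fst]
    show IsUnit (fstP (φ x))
    rw [hφ, isUnit_iff_ne_zero, Ne, Ideal.algebraMap_residueField_eq_zero]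
    exact hx
  · show φ (algebraMap A B a) = 0
    rw [IsScalarTower.algebraMap_apply A (MvPolynomial (Fin n) A) B, AlgHom.commutes]
    show ev (algebraMap A (MvPolynomial (Fin n) A) a) = 0
    rw [AlgHom.commutes]
    show TrivSqZeroExt.inl (algebraMap A κ a) = (0 : R)
    rw [IsScalarTower.algebraMap_apply A B κ, Ideal.algebraMap_residueField_eq_zero.2 (show algebraMap A B a ∈ P from ha),
      TrivSqZeroExt.inl_zero]
  · have hmap : (coords A B n).map φ.toRingHom =
        List.ofFn fun i : Fin n => (TrivSqZeroExt.inr (Pi.single i 1 : Fin n → κ) : R) := by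
      rw [coords, List.map_map, List.map_ofFn]
      refine congrArg List.ofFn (funext fun i => ?_)
      show φ (algebraMap _ B (X i)) = _
      rw [AlgHom.commutes]
      exact aeval_X _ i
    rw [hmap]
    intro l a m hlm hmem
    have hli : l.length < n := by
      have := congrArg List.length hlm
      simp at this
      omega
    let i : Fin n := ⟨l.length, hli⟩
    have hget : ∀ (k : ℕ) (hk : k < (l ++ a :: m).length),
        (l ++ a :: m)[k] = TrivSqZeroExt.inr (Pi.single (⟨k, by
          have := congrArg List.length hlm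
          simp at this hk ⊢
          omega⟩ : Fin n) 1 : Fin n → κ) := fun k hk => by
      simp only [← hlm, List.getElem_ofFn]
    have ha' : a = TrivSqZeroExt.inr (Pi.single i 1 : Fin n → κ) := by
      have := hget l.length (by simp)
      simpa using this
    have hsub : ∀ b ∈ l ++ m, (b.fst = 0 ∧ b.snd i = 0) := by
      intro b hb
      obtain ⟨k, hk, hbk, hki⟩ : ∃ k, ∃ hk : k < (l ++ a :: m).length, (l ++ a :: m)[k] = b ∧ k ≠ l.length := by
        rcases List.mem_append.1 hb with hb | hb
        · obtain ⟨k, hk, rfl⟩ := List.mem_iff_getElem.1 hb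
          exact ⟨k, by simp; omega, by rw [List.getElem_append_left hk], by omega⟩
        · obtain ⟨k, hk, rfl⟩ := List.mem_iff_getElem.1 hb
          exact ⟨l.length + 1 + k, by simp; omega,
            by rw [List.getElem_append_right (by omega)]; simp [show l.length + 1 + k - l.length = k + 1 by omega],
            by omega⟩
      rw [← hbk, hget k hk]
      refine ⟨TrivSqZeroExt.fst_inr _ _, ?_⟩
      rw [TrivSqZeroExt.snd_inr, Pi.single_eq_of_ne]
      exact fun h => hki (congrArg Fin.val h).symm
    have key : ∀ y ∈ Ideal.ofList (l ++ m), y.fst = 0 ∧ y.snd i = 0 := by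
      intro y hy
      induction hy using Submodule.span_induction with
      | mem b hb => exact hsub b hb
      | zero => exact ⟨TrivSqZeroExt.fst_zero, rfl⟩
      | add y z _ _ hy hz =>
        refine ⟨?_, ?_⟩
        · rw [TrivSqZeroExt.fst_add, hy.1, hz.1, add_zero]
        · rw [TrivSqZeroExt.snd_add, Pi.add_apply, hy.2, hz.2, add_zero]
      | smul c y _ hy =>
        refine ⟨?_, ?_⟩
        · rw [smul_eq_mul, TrivSqZeroExt.fst_mul, hy.1, mul_zero]
        · rw [smul_eq_mul, TrivSqZeroExt.snd_mul, hy.1, MulOpposite.op_zero, zero_smul, add_zero,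
            Pi.smul_apply, hy.2, smul_zero]
    have := (key a hmem).2
    rw [ha', TrivSqZeroExt.snd_inr, Pi.single_eq_same] at this
    exact one_ne_zero this

end Smooth

/-- A surjection from a standard smooth algebra has Koszul-regular kernel at a point iff the surjection
from the base does at the point below. -/
theorem smooth_iff {B E : Type u} [CommRing B] [CommRing E] [Algebra A B] [Algebra A E]
    (h : (algebraMap A B).IsStandardSmooth) (β : B →ₐ[A] E) (hα : Function.Surjective (algebraMap A E))
    (P : Ideal B) [P.IsPrime] (hP : RingHom.ker β.toRingHom ≤ P) :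
    KRAt (RingHom.ker (algebraMap A E)) (P.under A) ↔ KRAt (RingHom.ker β.toRingHom) P := by
  obtain ⟨n, ψ, hψ, hψ0⟩ := exists_etale_coord h β hα
  letI : Algebra (MvPolynomial (Fin n) A) B := ψ.toRingHom.toAlgebra
  haveI : Algebra.Etale (MvPolynomial (Fin n) A) B := hψ
  haveI : IsScalarTower A (MvPolynomial (Fin n) A) B :=
    IsScalarTower.of_algebraMap_eq fun a => (ψ.commutes a).symm
  let F := coords A B n
  have hFJ : Ideal.ofList F ≤ RingHom.ker β.toRingHom := Ideal.span_le.2 fun b hb => by
    obtain ⟨f, hf, rfl⟩ := List.mem_map.1 hb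
    obtain ⟨i, rfl⟩ := List.mem_ofFn.1 hf
    exact hψ0 i
  haveI : Algebra.Etale A (B ⧸ Ideal.ofList F) := etale_slice A B n
  haveI : Module.Flat A (B ⧸ Ideal.ofList F) := inferInstance
  haveI : Algebra.FinitePresentation A (B ⧸ Ideal.ofList F) := inferInstance
  let δ : B ⧸ Ideal.ofList F →ₐ[A] E := Ideal.Quotient.liftₐ _ β fun x hx => hFJ hx
  let Pb : Ideal (B ⧸ Ideal.ofList F) := P.map (Ideal.Quotient.mk _)
  haveI : Pb.IsPrime := Ideal.map_isPrime_of_surjective Ideal.Quotient.mk_surjective
    (by rw [Ideal.mk_ker]; exact hFJ.trans hP)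
  have hδ : RingHom.ker δ.toRingHom ≤ Pb := by
    intro y hy
    obtain ⟨x, rfl⟩ := Ideal.Quotient.mk_surjective y
    exact Ideal.mem_map_of_mem _ (hP (show β x = 0 from hy))
  obtain ⟨r, hr, hrx⟩ := exists_away_ker_eq δ hα Pb hδ
  obtain ⟨γ₀, rfl⟩ := Ideal.Quotient.mk_surjective r
  let I := RingHom.ker (algebraMap A E)
  have hle : I.map (algebraMap A B) ⊔ Ideal.ofList F ≤ RingHom.ker β.toRingHom :=
    sup_le (Ideal.map_le_iff_le_comap.2 fun a ha => show β (algebraMap A B a) = 0 by
      rw [β.commutes]; exact ha) hFJ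
  have hJ : ∃ γ : B, γ ∉ P ∧ (RingHom.ker β.toRingHom).map (algebraMap B (Localization.Away γ)) =
      (I.map (algebraMap A B) ⊔ Ideal.ofList F).map (algebraMap B (Localization.Away γ)) := by
    refine ⟨γ₀, fun hm => hr (Ideal.mem_map_of_mem _ hm), le_antisymm ?_ (Ideal.map_mono hle)⟩
    refine Ideal.map_le_iff_le_comap.2 fun x hx => ?_
    rw [Ideal.mem_comap, ← Ideal.unit_mul_mem_iff_mem _
      (IsLocalization.Away.algebraMap_isUnit (S := Localization.Away γ₀) γ₀), ← map_mul]
    refine Ideal.mem_map_of_mem _ ?_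
    have h1 := hrx (Ideal.Quotient.mk _ x) hx
    rw [← map_mul, IsScalarTower.algebraMap_eq A B (B ⧸ Ideal.ofList F), ← Ideal.map_map,
      Ideal.Quotient.algebraMap_eq, Ideal.mem_map_iff_of_surjective _ Ideal.Quotient.mk_surjective] at h1
    obtain ⟨y, hy, hyx⟩ := h1
    rw [show γ₀ * x = y + -(y - γ₀ * x) by ring]
    exact Submodule.add_mem_sup hy (neg_mem (Ideal.Quotient.eq.1 hyx))
  obtain ⟨L, iL, φ, hφ, hφp, hirr⟩ := exists_irred_fibre A B n P (hFJ.trans hP)
  exact ⟨fun hI => KRAt.up F I _ coords_reg P hJ hI,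
    fun hJ' => KRAt.down F I _ coords_reg P hP hJ φ hφ hφp hirr hJ'⟩

end Groth.Agent.H8Props.KoszImm
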